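import Cfsg.Agent.H232.SporA
import Cfsg.Agent.CoOneType.CoOneE
import Cfsg.Agent.CoOneType.Thirteen
import Cfsg.Agent.SporadicStructure.DodecadM12
import Cfsg.Agent.S0361
import Cfsg.Agent.S0364
import Cfsg.Agent.H813.CoLarge
import Cfsg.Agent.LargeExtra.SuzData

/-!
# Theorem T: an involution `t` with `p ∣ |C(t)|`, `p ^ 2 ∤ |C(t)|`: Co1, p = 5
-/

set_option autoImplicit false

namespace Cfsg.Agent.H232.Row

open Cfsg Subgroup

section Co1

open Cfsg.Agent.SporadicA.Co0Mono Cfsg.Agent.SporadicA.Co1Simple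
open Cfsg.Agent.CoOneType Cfsg.Agent.CoOneType.CoOneE Cfsg.Agent.CoOneType.SignFacts
open Cfsg.Agent.CoOneType.Thirteen
open scoped Pointwise

/-- an element of order 5 of the stabiliser of a dodecad -/
theorem exists_five {s : Finset GolayPt} (hs : s ∈ dodecads) :
    ∃ σ : M24, orderOf σ = 5 ∧ σ • s = s := by
  have h1 : MulAction.orbit M24 s = dodecads := by
    ext x
    constructor
    · rintro ⟨g, rfl⟩
      exact Cfsg.Agent.SporadicStructure.DodecadM12.smul_mem_dodecads g.2 hs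
    · intro hx
      obtain ⟨g, hg⟩ := Cfsg.Agent.S0368.result _ _ hs hx
      exact ⟨g, hg⟩
  have h2 : Nat.card (MulAction.orbit M24 s) = 2576 := by
    rw [h1, Nat.card_coe_set_eq, Cfsg.Agent.S0361.result]
  have h3 := Nat.card_congr (MulAction.orbitProdStabilizerEquivGroup M24 s)
  rw [Nat.card_prod, h2, Cfsg.Agent.S0364.result] at h3
  have h4 : Nat.card (MulAction.stabilizer M24 s) = 95040 := by omega
  have : Fact (Nat.Prime 5) := ⟨by norm_num⟩
  obtain ⟨x, hx⟩ := exists_prime_orderOf_dvd_card' (G := MulAction.stabilizer M24 s) 5 (by rw [h4]; norm_num)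
  exact ⟨x, by rw [Subgroup.orderOf_coe, hx], x.2⟩

theorem kill_co1_aux : Kill 5 Spor.Co1 := by
  have hwt : wt (q 0) = 12 := card_q0
  have h0 : sup (q 0) ∈ dodecads := ⟨⟨_, (q 0).2, rfl⟩, card_q0⟩
  obtain ⟨σ, hσ, hs⟩ := exists_five h0
  have h1 : wordPerm σ (q 0) = q 0 := wordPerm_support σ _ _ hs
  have h2 : permCo0 σ * signCo0 (q 0) = signCo0 (q 0) * permCo0 σ := by
    rw [perm_mul_sign, h1]
  have h3 : orderOf (permCo0 σ) = 5 := by rw [orderOf_injective _ permCo0_injective, hσ]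
  have h4 := dvd_card_centralizer (by norm_num) (by norm_num) h3 h2
  have h5 : pr (signCo0 (q 0)) ≠ 1 := by rw [Ne, pr_sign_eq_one_iff]; omega
  refine Or.inr (Or.inl ⟨pr (signCo0 (q 0)), ord_two ?_ h5, h4, ?_⟩)
  · rw [← map_mul, signCo0_mul_self, map_one]
  · intro h
    have h6 := (h.trans (Subgroup.card_dvd_of_le (centralizer_dodecad_le (q 0) hwt))).trans
      (Subgroup.card_map_dvd _ _)
    rw [Cfsg.Agent.S0399.card_N] at h6
    norm_num at h6

end Co1

section Co1Seven

open Cfsg.Agent.H813.CoLarge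
open Cfsg.Agent.StdG24.ExInst (z Q)

theorem card_cent_z : Nat.card (centralizer ({z} : Set Spor.Co1)) = 89181388800 := by
  have := finite_co1
  have := H813.CoLarge.normal
  obtain ⟨L, hL⟩ := exists_L
  obtain ⟨e⟩ := H813.OmegaCent.nonempty_equiv large L hL perfect card_Q' card_le
  refine LargeExtra.card_centralizer_co _ ?_ e
  rw [← card_Q']
  exact Nat.card_congr (Subgroup.subgroupOfEquivOfLe (Cfsg.Agent.LargeExtra.Nine.ToCent.le_cent large)).toEquiv

theorem kill_co1_aux7 : Kill 7 Spor.Co1 :=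
  Kill.of_card (ord_two large.z_sq large.z_ne) card_cent_z (by norm_num) (by norm_num)

end Co1Seven

theorem kill_co1 {K : Type*} [Group K] (h : Spor.IsoCo1 K) : Kill 5 K ∧ Kill 7 K := by
  obtain ⟨e⟩ := h
  have := H813.CoLarge.finite_co1
  have hfinK : Finite K := Finite.of_equiv _ e.symm.toEquiv
  have hf5 : Fact (Nat.Prime 5) := ⟨by norm_num⟩
  have hf7 : Fact (Nat.Prime 7) := ⟨by norm_num⟩
  exact ⟨kill_co1_aux.congr e, kill_co1_aux7.congr e⟩

end Cfsg.Agent.H232.Row
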