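import Cfsg.Prelude.Def_LocalStructure
import Cfsg.Agent.H227.WeakChar
import Cfsg.Agent.S0029
import Cfsg.Agent.Lib.FrattiniPGroup
import Cfsg.Agent.PLocal.OffenderStep

/-!
# Large subgroups and the basic property: `N_G(I) ≤ M†`
-/

set_option autoImplicit false
set_option linter.unusedSectionVars false

namespace Cfsg.Agent.H232.FrakM

open Subgroup Cfsg Cfsg.Agent.H227.Weak
open scoped commutatorElement

variable {G : Type*} [Group G] [Finite G] {p : ℕ} [Fact p.Prime]

/-- If `Q` is a large `p`-subgroup, `Q ≤ K`, `O_p(K) ≠ 1` and `C_G(O_p(K)) ≤ K`, then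
`C_G(O_p(K)) ≤ O_p(K)`. -/
theorem centralizer_pCoreOf_le {Q : Subgroup G} (hQp : IsPGroup p Q) (hQ : IsLarge Q)
    {K : Subgroup G} (hQK : Q ≤ K) (hK : pCoreOf p K ≠ ⊥)
    (hCK : centralizer ((pCoreOf p K : Subgroup G) : Set G) ≤ K) :
    centralizer ((pCoreOf p K : Subgroup G) : Set G) ≤ pCoreOf p K := by
  set P := pCoreOf p K with hP
  set C := centralizer (P : Set G) with hC
  have hPp : IsPGroup p P := isPGroup_pCoreOf K
  have hKP : K ≤ normalizer (P : Set G) :=
    le_normalizer.trans (normalizer_le_normalizer_pCoreOf p K)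
  have hKC : K ≤ normalizer (C : Set G) := hKP.trans (normalizer_le_normalizer_centralizer P)
  have hU := PLocal.OffenderStep.inf_centralizer_ne_bot P Q hPp hQp (hQK.trans hKP) hK
  have h1 : C ≤ normalizer (Q : Set G) := by
    refine le_trans ?_ (hQ.2 _ inf_le_right hU)
    refine le_trans (centralizer_le (inf_le_left : P ⊓ centralizer (Q : Set G) ≤ P)) ?_
    exact centralizer_le_normalizer _
  have h2 : ⁅Q, C⁆ ≤ Q ⊓ C := le_inf (commutator_le_of_le_normalizer h1)
    (commutator_le_of_le_normalizer' (hQK.trans hKC))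
  have h3 : Q ⊓ C ≤ P := by
    have h4 : Q ⊓ C ≤ pCoreOf p C := by
      refine le_pCoreOf (hQp.to_le inf_le_left) inf_le_right ?_
      refine le_normalizer_of_commutator_le ?_
      refine le_inf ((Subgroup.commutator_mono inf_le_left le_rfl).trans (h2.trans inf_le_left)) ?_
      exact (Subgroup.commutator_mono inf_le_right le_rfl).trans
        (commutator_le_of_le_normalizer le_normalizer)
    refine h4.trans (le_pCoreOf (isPGroup_pCoreOf C) ((pCoreOf_le p C).trans hCK) ?_)
    exact hKC.trans (normalizer_le_normalizer_pCoreOf p C)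
  have h5 : IsPGroup p C := isPGroup_centralizer_of hQp hQ.1 (le_inf (h2.trans inf_le_left)
    (h2.trans h3))
  exact le_pCoreOf h5 hCK hKC

/-- membership in `𝓛_G` in terms of `pCoreOf` -/
theorem mem_charP_iff {K : Subgroup G} : K ∈ charPSubgroups p G ↔
    pCoreOf p K ≠ ⊥ ∧ centralizer ((pCoreOf p K : Subgroup G) : Set G) ≤ pCoreOf p K := by
  have : pCoreOf p K = ⊥ ↔ pCore p ↥K = ⊥ := by
    constructor
    · intro h
      exact (Subgroup.map_eq_bot_iff_of_injective _ K.subtype_injective).1 h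
    · intro h
      rw [pCoreOf, h, Subgroup.map_bot]
  change (pCore p ↥K ≠ ⊥ ∧ _) ↔ _
  rw [Ne, Ne, this]
  rfl

theorem exists_max_charP {K : Subgroup G} (hK : K ∈ charPSubgroups p G) :
    ∃ X ∈ maxCharPSubgroups p G, K ≤ X := by
  obtain ⟨X, hKX, hX⟩ := (Set.toFinite (charPSubgroups p G)).exists_le_maximal hK
  exact ⟨X, ⟨hX.1, fun L hL hXL => le_antisymm (hX.2 hL hXL) hXL⟩, hKX⟩

/-- Overgroups of `M` with nontrivial `p`-core, containing the centralizer of it, lie in `M†`. -/
theorem le_dagger {Q : Subgroup G} (hQp : IsPGroup p Q) (hQ : IsLarge Q) {M : Subgroup G}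
    (hQM : Q ≤ M) (hM : IsInFrakM p M) {K : Subgroup G} (hMK : M ≤ K)
    (hK : pCoreOf p K ≠ ⊥) (hCK : centralizer ((pCoreOf p K : Subgroup G) : Set G) ≤ K) :
    K ≤ M ⊔ centralizer ((largestPReducedOf p M : Subgroup G) : Set G) := by
  have h1 : K ∈ charPSubgroups p G :=
    mem_charP_iff.2 ⟨hK, centralizer_pCoreOf_le hQp hQ (hQM.trans hMK) hK hCK⟩
  obtain ⟨X, hX, hKX⟩ := exists_max_charP h1
  rw [← hM.2.2.1 X hX (hMK.trans hKX)]
  exact hKX

/-- the normalizer of a nontrivial normal `p`-subgroup of `M` lies in `M†` -/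
theorem normalizer_le_dagger {Q : Subgroup G} (hQp : IsPGroup p Q) (hQ : IsLarge Q)
    {M : Subgroup G} (hQM : Q ≤ M) (hM : IsInFrakM p M) {I : Subgroup G} (hI1 : I ≠ ⊥)
    (hIp : IsPGroup p I) (hIM : M ≤ normalizer (I : Set G)) :
    normalizer (I : Set G) ≤ M ⊔ centralizer ((largestPReducedOf p M : Subgroup G) : Set G) := by
  have h1 : I ≤ pCoreOf p (normalizer (I : Set G)) := le_pCoreOf hIp le_normalizer le_rfl
  refine le_dagger hQp hQ hQM hM hIM ?_ ?_
  · intro h
    rw [h, le_bot_iff] at h1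
    exact hI1 h1
  · exact (centralizer_le h1).trans (centralizer_le_normalizer _)

/-- A subgroup `F` with a normal `p`-subgroup `R` modulo which the `p'`-elements are central:
the `p`-subgroups of `F` are in `O_p(F)`. -/
theorem le_pCoreOf_of_central {F R Y : Subgroup G} (hR : IsPGroup p R) (hRF : R ≤ F)
    (hFR : F ≤ normalizer (R : Set G)) (hY : IsPGroup p Y) (hYF : Y ≤ F)
    (h : ∀ x ∈ F, Nat.Coprime (orderOf x) p → ∀ y ∈ F, ⁅y, x⁆ ∈ R) : Y ≤ pCoreOf p F := by
  obtain ⟨P, hP⟩ := exists_le_sylow_map hY hYF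
  have hRP : R ≤ (P : Subgroup F).map F.subtype := by
    have h1 : R.subgroupOf F ≤ pCore p F := by
      refine Lib.Cores.le_pCore ?_ (hR.comap_of_injective _ F.subtype_injective)
      exact (normal_subgroupOf_iff_le_normalizer hRF).2 hFR
    have h2 := h1.trans (Lib.Cores.pCore_le_sylow P)
    rw [← Subgroup.map_subgroupOf_eq_of_le hRF]
    exact Subgroup.map_mono h2
  have hN : normalizer ((P : Subgroup F) : Set F) = ⊤ := by
    refine Lib.Cores.eq_top_of_sylow_le fun q hq => ?_
    by_cases hqp : q = p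
    · subst hqp
      exact ⟨P, le_normalizer⟩
    · refine ⟨default, fun x hx => ?_⟩
      have hx1 : Nat.Coprime (orderOf (x : G)) p := by
        obtain ⟨k, hk⟩ := (default : Sylow q F).isPGroup' ⟨x, hx⟩
        have h1 : (x : G) ^ q ^ k = 1 := by
          have := congrArg (fun y : (default : Sylow q F) => ((y : F) : G)) hk
          simpa using this
        have h2 : orderOf (x : G) ∣ q ^ k := orderOf_dvd_of_pow_eq_one h1
        exact Nat.Coprime.coprime_dvd_left h2
          (Nat.Coprime.pow_left _ ((Nat.coprime_primes hq.out (Fact.out : p.Prime)).2 hqp))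
      have key : ∀ x : F, Nat.Coprime (orderOf (x : G)) p → ∀ y ∈ (P : Subgroup F),
          x * y * x⁻¹ ∈ (P : Subgroup F) := by
        intro x hx1 y hy
        have h1 := h x x.2 hx1 (y : G)⁻¹ (F.inv_mem y.2)
        have h2 : ⁅(y : G)⁻¹, (x : G)⁆ ∈ (P : Subgroup F).map F.subtype := hRP h1
        obtain ⟨z, hz, hzx⟩ := h2
        have h3 : x * y * x⁻¹ = y * z := by
          apply Subtype.ext
          simp only [coe_subtype] at hzx
          simp only [Subgroup.coe_mul, InvMemClass.coe_inv, hzx, commutatorElement_def]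
          group
        rw [h3]
        exact (P : Subgroup F).mul_mem hy hz
      rw [mem_normalizer_iff]
      intro y
      refine ⟨key x hx1 y, fun hy => ?_⟩
      have hx2 : Nat.Coprime (orderOf ((x⁻¹ : F) : G)) p := by
        simpa using hx1
      have := key x⁻¹ hx2 _ hy
      simpa [mul_assoc] using this
  have hPn : (P : Subgroup F).Normal := normalizer_eq_top_iff.1 hN
  refine hP.trans (Subgroup.map_mono ?_)
  exact Lib.Cores.le_pCore hPn P.isPGroup'

/-- the elements of `L` centralizing `A` modulo `B` -/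
def cmod (L A B : Subgroup G) (h : L ≤ normalizer (B : Set G)) : Subgroup G where
  carrier := {x | x ∈ L ∧ ∀ a ∈ A, ⁅x, a⁆ ∈ B}
  one_mem' := ⟨L.one_mem, fun a _ => by
    rw [commutatorElement_one_left]; exact B.one_mem⟩
  mul_mem' := by
    rintro x y ⟨hx, hxA⟩ ⟨hy, hyA⟩
    refine ⟨L.mul_mem hx hy, fun a ha => ?_⟩
    have h1 : ⁅x * y, a⁆ = (x * ⁅y, a⁆ * x⁻¹) * ⁅x, a⁆ := by
      simp only [commutatorElement_def]; group
    rw [h1]
    exact B.mul_mem ((mem_normalizer_iff.1 (h hx) _).1 (hyA a ha)) (hxA a ha)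
  inv_mem' := by
    rintro x ⟨hx, hxA⟩
    refine ⟨L.inv_mem hx, fun a ha => ?_⟩
    have h1 : ⁅x⁻¹, a⁆ = x⁻¹ * ⁅x, a⁆⁻¹ * (x⁻¹)⁻¹ := by
      simp only [commutatorElement_def]; group
    rw [h1]
    exact (mem_normalizer_iff.1 (h (L.inv_mem hx)) _).1 (B.inv_mem (hxA a ha))

theorem mem_cmod {L A B : Subgroup G} {h : L ≤ normalizer (B : Set G)} {x : G} :
    x ∈ cmod L A B h ↔ x ∈ L ∧ ∀ a ∈ A, ⁅x, a⁆ ∈ B := Iff.rfl

theorem le_normalizer_of_forall {L B : Subgroup G}
    (h : ∀ x ∈ L, ∀ b ∈ B, x * b * x⁻¹ ∈ B) : L ≤ normalizer (B : Set G) := by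
  intro x hx
  rw [mem_normalizer_iff]
  intro b
  refine ⟨h x hx b, fun hb => ?_⟩
  have := h x⁻¹ (L.inv_mem hx) _ hb
  simpa [mul_assoc] using this

theorem le_normalizer_cmod {L A B : Subgroup G} (h : L ≤ normalizer (B : Set G))
    (hA : L ≤ normalizer (A : Set G)) : L ≤ normalizer ((cmod L A B h : Subgroup G) : Set G) := by
  refine le_normalizer_of_forall fun x hx y hy => ?_
  rw [mem_cmod] at hy ⊢
  refine ⟨L.mul_mem (L.mul_mem hx hy.1) (L.inv_mem hx), fun a ha => ?_⟩
  have h1 : x⁻¹ * a * (x⁻¹)⁻¹ ∈ A := (mem_normalizer_iff.1 (hA (L.inv_mem hx)) _).1 ha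
  have h2 := (mem_normalizer_iff.1 (h hx) _).1 (hy.2 _ h1)
  convert h2 using 1
  simp only [commutatorElement_def]
  group

/-- The commutator criterion. -/
theorem le_pCoreOf_of_commutator_le {Md Y L A : Subgroup G} (hY : Y ≤ pCoreOf p Md) (hYL : Y ≤ L)
    (hAp : IsPGroup p A) (hAL : L ≤ normalizer (A : Set G))
    (hCA : centralizer (A : Set G) ≤ Md) (hc : ⁅Y, A⁆ ≤ ⁅A, A⁆) : Y ≤ pCoreOf p L := by
  set D := L ⊓ centralizer (A : Set G) with hD
  set R := pCoreOf p D with hR
  set Φ := (frattini A).map A.subtype with hΦ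
  have hYp : IsPGroup p Y := (isPGroup_pCoreOf Md).to_le hY
  have hLD : L ≤ normalizer (D : Set G) :=
    le_normalizer_of_commutator_le (le_inf ((Subgroup.commutator_mono inf_le_left le_rfl).trans
      (commutator_le_of_le_normalizer le_normalizer))
      ((Subgroup.commutator_mono inf_le_right le_rfl).trans
      (commutator_le_of_le_normalizer (hAL.trans (normalizer_le_normalizer_centralizer A)))))
  have hLR : L ≤ normalizer (R : Set G) := hLD.trans (normalizer_le_normalizer_pCoreOf p D)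
  have hLΦ : L ≤ normalizer (Φ : Set G) := by
    refine le_normalizer_of_forall fun x hx b hb => ?_
    obtain ⟨c, hc, rfl⟩ := hb
    have hxA : ∀ a : A, x * a * x⁻¹ ∈ A := fun a => (mem_normalizer_iff.1 (hAL hx) _).1 a.2
    have hxA' : ∀ a : A, x⁻¹ * a * x ∈ A := fun a => by
      have := (mem_normalizer_iff.1 (hAL (L.inv_mem hx)) _).1 a.2
      simpa using this
    let e : A ≃* A :=
      { toFun := fun a => ⟨x * a * x⁻¹, hxA a⟩
        invFun := fun a => ⟨x⁻¹ * a * x, hxA' a⟩
        left_inv := fun a => Subtype.ext (by simp [mul_assoc])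
        right_inv := fun a => Subtype.ext (by simp [mul_assoc])
        map_mul' := fun a b => Subtype.ext (by simp [mul_assoc]) }
    have h1 : e c ∈ (frattini A).map e.toMonoidHom := ⟨c, hc, rfl⟩
    rw [characteristic_iff_map_eq.1 (frattini_characteristic (G := A)) e] at h1
    exact ⟨e c, h1, rfl⟩
  set F := cmod L A Φ hLΦ ⊓ cmod L D R hLR with hF
  have hFL : F ≤ L := fun x hx => (mem_cmod.1 hx.1).1
  have hLF : L ≤ normalizer (F : Set G) := by
    refine le_normalizer_of_forall fun x hx y hy => ?_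
    exact ⟨(mem_normalizer_iff.1 (le_normalizer_cmod hLΦ hAL hx) _).1 hy.1,
      (mem_normalizer_iff.1 (le_normalizer_cmod hLR hLD hx) _).1 hy.2⟩
  have hDMd : D ≤ Md := inf_le_right.trans hCA
  have hYD : ⁅Y, D⁆ ≤ R := by
    have h1 : ⁅Y, D⁆ ≤ pCoreOf p Md ⊓ D := le_inf ((Subgroup.commutator_mono hY hDMd).trans
      (commutator_le_of_le_normalizer
        (le_normalizer.trans (normalizer_le_normalizer_pCoreOf p Md))))
      (commutator_le_of_le_normalizer' (hYL.trans hLD))
    refine h1.trans (le_pCoreOf ((isPGroup_pCoreOf Md).to_le inf_le_left) inf_le_right ?_)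
    refine le_normalizer_of_forall fun x hx y hy => ?_
    refine ⟨(mem_normalizer_iff.1 (normalizer_le_normalizer_pCoreOf p Md
      (le_normalizer (hDMd hx))) _).1 hy.1, D.mul_mem (D.mul_mem hx hy.2) (D.inv_mem hx)⟩
  have hYF : Y ≤ F := by
    intro y hy
    refine ⟨mem_cmod.2 ⟨hYL hy, fun a ha => ?_⟩, mem_cmod.2 ⟨hYL hy, fun d hd => ?_⟩⟩
    · have h1 : ⁅y, a⁆ ∈ ⁅A, A⁆ := hc (commutator_mem_commutator hy ha)
      have h2 : ⁅A, A⁆ ≤ Φ := by
        rw [commutator_le]
        intro a ha b hb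
        exact ⟨⁅(⟨a, ha⟩ : A), ⟨b, hb⟩⁆,
          Lib.FrattiniPGroup.commutator_mem_frattini hAp _ _, rfl⟩
      exact h2 h1
    · exact hYD (commutator_mem_commutator hy hd)
  have hRF : R ≤ F := by
    intro r hr
    have hrD : r ∈ D := pCoreOf_le p D hr
    refine ⟨mem_cmod.2 ⟨hrD.1, fun a ha => ?_⟩, mem_cmod.2 ⟨hrD.1, fun d hd => ?_⟩⟩
    · have h1 : ⁅r, a⁆ = 1 := by
        rw [commutatorElement_eq_one_iff_mul_comm]
        exact (hrD.2 a ha).symm
      rw [h1]
      exact Φ.one_mem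
    · exact commutator_le_of_le_normalizer
        (le_normalizer.trans (normalizer_le_normalizer_pCoreOf p D))
        (commutator_mem_commutator hr hd)
  have hmain : Y ≤ pCoreOf p F := by
    refine le_pCoreOf_of_central (R := R) (isPGroup_pCoreOf D) hRF (hFL.trans hLR) hYp hYF ?_
    intro x hx hxp y hy
    have hxA : x ∈ centralizer (A : Set G) := by
      refine S0029.result (zpowers x) A ?_ ?_ ?_ (mem_zpowers x)
      · rw [zpowers_le]
        exact hAL (hFL hx)
      · rw [Nat.card_zpowers]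
        obtain ⟨k, hk⟩ := IsPGroup.iff_card.1 (hAp.to_subgroup (frattini A))
        rw [hk]
        exact Nat.Coprime.pow_right _ hxp
      · intro a ha k hk
        have h1 : a ∈ cmod L A Φ hLΦ := by
          have h2 : zpowers x ≤ cmod L A Φ hLΦ := by
            rw [zpowers_le]
            exact hx.1
          exact h2 ha
        exact (mem_cmod.1 h1).2 k hk
    exact (mem_cmod.1 hy.2).2 x ⟨hFL hx, hxA⟩
  exact hmain.trans (le_pCoreOf (isPGroup_pCoreOf F) ((pCoreOf_le p F).trans hFL)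
    (hLF.trans (normalizer_le_normalizer_pCoreOf p F)))

end Cfsg.Agent.H232.FrakM
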