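import Cfsg.Agent.H232.MeetCo1Data
import Cfsg.Agent.H68.MeetBase
import Cfsg.Agent.BpSpor.Row.Co1
import Cfsg.Agent.NotCT.Orders

/-!
# `Meet 3` for `Co1` (helper232)
-/

set_option autoImplicit false
set_option maxRecDepth 20000

namespace Cfsg.Agent.H232.MeetCo1

open Subgroup Cfsg Cfsg.Agent.LThreeCo1.Ev Cfsg.Agent.LThreeCo1.Rel Cfsg.Agent.SporadicStructure.Co0Matrix
open Cfsg.Agent.CoOneType.CoEval Cfsg.Agent.CoOneType.CoFast Cfsg.Agent.SporadicA
open Cfsg.Agent.LThreeCo1.AGrp Cfsg.Agent.LThreeCo1.Heis Cfsg.Agent.LThreeCo1.SylCls Cfsg.Agent.LThreeCo1.Class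
open Cfsg.Agent.H68.MeetB

/-- the vectors of a list -/
def V {L : List (List ℤ)} (hL : L.all leechB = true) (i : Fin L.length) : leechLattice :=
  ⟨vec L[i], vec_mem_of_leechB (List.all_eq_true.1 hL _ (List.getElem_mem _))⟩

theorem V_injective {L : List (List ℤ)} (hL : L.all leechB = true) (hn : L.Nodup)
    (hl : (L.all fun l => Nat.beq l.length 24) = true) : Function.Injective (V hL) := by
  intro i j hij
  have hlen : ∀ k : Fin L.length, L[k].length = 24 := fun k =>
    Nat.eq_of_beq_eq_true (List.all_eq_true.1 hl _ (List.getElem_mem _))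
  have h1 : vec L[i] = vec L[j] := congrArg Subtype.val hij
  have h2 := vec_injective (hlen i) (hlen j) h1
  exact Fin.ext ((List.Nodup.getElem_inj_iff hn).1 h2)

/-- the elements preserving the set of vectors -/
def St {L : List (List ℤ)} (hL : L.all leechB = true) : Submonoid Co0 where
  carrier := {g | ∀ i, ∃ j, g • V hL i = V hL j}
  one_mem' := fun i => ⟨i, one_smul _ _⟩
  mul_mem' := by
    intro g h hg hh i
    obtain ⟨j, hj⟩ := hh i
    obtain ⟨k, hk⟩ := hg j
    exact ⟨k, by rw [mul_smul, hj, hk]⟩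

theorem mem_St {L : List (List ℤ)} (hL : L.all leechB = true) {g : Co0} {R : List (List ℤ)} (hg : Rep g R)
    (hl : (L.all fun l => Nat.beq l.length 24) = true) (h : mv R L = true) : g ∈ St hL := by
  intro i
  obtain ⟨l', hl', he⟩ := List.any_eq_true.1 (List.all_eq_true.1 h _ (List.getElem_mem i.2))
  obtain ⟨j, hj, rfl⟩ := List.mem_iff_getElem.1 hl'
  refine ⟨⟨j, hj⟩, Subtype.ext ?_⟩
  have hlen : L[i].length = 24 :=
    Nat.eq_of_beq_eq_true (List.all_eq_true.1 hl _ (List.getElem_mem _))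
  have h1 := hg.apply (v := V hL i) (l := L[i]) hlen.le rfl
  rw [← apZ_eq] at h1
  have h2 := eqL_eq he
  change ((g.1 (V hL i) : leechLattice) : GolayPt → ℤ) = vec L[j]
  rw [h1]
  exact congrArg vec h2

theorem le_St {L : List (List ℤ)} (hL : L.all leechB = true)
    (hl : (L.all fun l => Nat.beq l.length 24) = true)
    (h : ((List.range 9).all fun i => mv (M (i + 1)) L) = true) {g : Co0} (hg : g ∈ PP dat) : g ∈ St hL := by
  have key : ∀ i, i < 9 → e (i + 1) ∈ St hL := fun i hi => mem_St hL (rep _) hl (all_range h hi)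
  obtain ⟨v, x, rfl⟩ := hg
  have h1 : Ph a v ∈ St hL := by
    unfold Ph a
    exact mul_mem (pow_mem (key 0 (by norm_num)) _) (mul_mem (pow_mem (key 1 (by norm_num)) _)
      (mul_mem (pow_mem (key 2 (by norm_num)) _) (mul_mem (pow_mem (key 3 (by norm_num)) _)
      (mul_mem (pow_mem (key 4 (by norm_num)) _) (pow_mem (key 5 (by norm_num)) _)))))
  have h2 : NN (e 7) (e 8) (e 9) x ∈ St hL := by
    unfold NN N
    exact mul_mem (mul_mem (pow_mem (key 6 (by norm_num)) _) (pow_mem (key 7 (by norm_num)) _))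
      (pow_mem (key 8 (by norm_num)) _)
  exact mul_mem h1 h2

/-- the inner product -/
def r (v w : leechLattice) : ℤ := dotInt (v : GolayPt → ℤ) (w : GolayPt → ℤ)

theorem r_inv (g : Co0) (v w : leechLattice) : r (g • v) (g • w) = r v w := Co0Basic.map_dot g v w

theorem sum_eq {L : List (List ℤ)} (hL : L.all leechB = true)
    {v : leechLattice} {l : List ℤ} (hv : (v : GolayPt → ℤ) = vec l) (hl : l.length ≤ 24) :
    ∑ i, phi (r v (V hL i)) = FL L l := by
  have h1 : ∀ i : Fin L.length, phi (r v (V hL i)) = (fun w => phi (dotZ l w)) L[i] := by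
    intro i
    show phi (dotInt (v : GolayPt → ℤ) (vec L[i])) = phi (dotZ l L[i])
    rw [hv, dotInt_vec _ _ hl, dotZ_eq]
  rw [Finset.sum_congr rfl fun i _ => h1 i, FL, ← List.sum_ofFn]
  congr 1
  apply List.ext_getElem
  · simp
  · intro n h1 h2
    simp

/-- the element `x` -/
noncomputable def X : Co0 := e 28

theorem value {L L' : List (List ℤ)} (hL : L.all leechB = true) (hL' : L'.all leechB = true)
    (hl : (L.all fun l => Nat.beq l.length 24) = true) (i : Fin L.length) :
    ∑ j, phi (r (X • V hL i) (V hL' j)) = FL L' (apZ (M 28) L[i]) := by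
  have hlen : L[i].length = 24 :=
    Nat.eq_of_beq_eq_true (List.all_eq_true.1 hl _ (List.getElem_mem _))
  have h1 := (rep 28).apply (v := V hL i) (l := L[i]) hlen.le rfl
  rw [← apZ_eq] at h1
  apply sum_eq hL' h1
  rw [apZ_eq, length_ap (rep 28).len]

theorem fix {L : List (List ℤ)} (hL : L.all leechB = true) (hl : (L.all fun l => Nat.beq l.length 24) = true)
    (hmv : ((List.range 9).all fun i => mv (M (i + 1)) L) = true) {K : List (ℕ × ℕ)}
    (hK : (L.map fun l => (FL L1 (apZ (M 28) l), FL L2 (apZ (M 28) l))) = K) {n : ℕ} (hn : L.length = n)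
    {C : List ℤ} (hU : ((List.range n).all fun i => decide (C.getD i 0 = 0) ||
      ((List.range n).all fun j => decide (K.getD j 0 = K.getD i 0 → j = i))) = true)
    {y : Co0} (hy : y ∈ PP dat) (hxy : X * y * X⁻¹ ∈ PP dat) (i : Fin L.length) (hC : C.getD i 0 ≠ 0) :
    y • V hL i = V hL i := by
  obtain ⟨j, hj⟩ := le_St hL hl hmv hy i
  have e1 := MeetInv.sum_inv (V_injective k_leech1 k_nodup1 k_len1) r_inv phi
    (le_St k_leech1 k_len1 k_mv1 hxy) (V hL i)
  have e2 := MeetInv.sum_inv (V_injective k_leech2 k_nodup2 k_len2) r_inv phi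
    (le_St k_leech2 k_len2 k_mv2 hxy) (V hL i)
  rw [hj, value hL _ hl, value hL _ hl] at e1 e2
  have hKi : ∀ k : Fin L.length, K.getD k 0 = (FL L1 (apZ (M 28) L[k]), FL L2 (apZ (M 28) L[k])) := by
    intro k
    rw [← hK, List.getD_eq_getElem _ _ (by rw [List.length_map]; exact k.2), List.getElem_map]
    rfl
  have h1 : K.getD j 0 = K.getD i 0 := by rw [hKi, hKi, e1, e2]
  have h2 := all_range hU (i := i.val) (by rw [← hn]; exact i.2)
  rw [Bool.or_eq_true, decide_eq_true_eq] at h2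
  rcases h2 with h2 | h2
  · exact absurd h2 hC
  have h3 := of_decide_eq_true (all_range h2 (i := j.val) (by rw [← hn]; exact j.2)) h1
  rw [hj, Fin.ext h3]

theorem len1 : L1.length = 9 := rfl
theorem len2 : L2.length = 27 := rfl

theorem coe_vec_sum {L : List (List ℤ)} (hL : L.all leechB = true) (C : List ℤ) (p : GolayPt) :
    ((∑ i : Fin L.length, C.getD i 0 • V hL i : leechLattice) : GolayPt → ℤ) p =
      ∑ i ∈ Finset.range L.length, C.getD i 0 * (L.getD i []).getD (GolayBase.idx p) 0 := by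
  rw [← Fin.sum_univ_eq_sum_range (fun i => C.getD i 0 * (L.getD i []).getD (GolayBase.idx p) 0)]
  rw [AddSubgroup.val_finsetSum, Finset.sum_apply]
  apply Finset.sum_congr rfl
  intro i _
  rw [AddSubgroup.coe_zsmul, Pi.smul_apply, smul_eq_mul]
  congr 1
  show vec L[i] p = _
  rw [vec_apply, List.getD_eq_getElem _ [] i.2]
  rfl

theorem beta_eq : (∑ i : Fin L1.length, C1.getD i 0 • V k_leech1 i) + (∑ i : Fin L2.length, C2.getD i 0 • V k_leech2 i) =
    (H232.MeetCo1.D • CoOneType.CoEval.beta : leechLattice) := by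
  apply Subtype.ext
  funext p
  rw [AddSubgroup.coe_add, Pi.add_apply, coe_vec_sum, coe_vec_sum, AddSubgroup.coe_zsmul, Pi.smul_apply, beta_coe,
    vec_apply, smul_eq_mul, len1, len2]
  exact of_decide_eq_true (all_range k_beta (GolayBase.idx_lt p))

theorem smul_sum {L : List (List ℤ)} (hL : L.all leechB = true) (C : List ℤ) {y : Co0}
    (h : ∀ i : Fin L.length, C.getD i 0 ≠ 0 → y • V hL i = V hL i) :
    y.1 (∑ i : Fin L.length, C.getD i 0 • V hL i) = ∑ i : Fin L.length, C.getD i 0 • V hL i := by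
  rw [Co0Basic.map_sum]
  apply Finset.sum_congr rfl
  intro i _
  rw [Co0Basic.map_zsmul]
  by_cases h0 : C.getD i 0 = 0
  · rw [h0, zero_smul, zero_smul]
  · exact congrArg _ (h i h0)

theorem eq_one {y : Co0} (hy : y ∈ PP dat) (hxy : X * y * X⁻¹ ∈ PP dat) : y = 1 := by
  apply eq_one_of_fix
  have h1 := smul_sum k_leech1 C1 (fix k_leech1 k_len1 k_mv1 k_K1 len1 k_U1 hy hxy)
  have h2 := smul_sum k_leech2 C2 (fix k_leech2 k_len2 k_mv2 k_K2 len2 k_U2 hy hxy)
  have h3 : y.1 ((H232.MeetCo1.D • CoOneType.CoEval.beta : leechLattice)) = (H232.MeetCo1.D • CoOneType.CoEval.beta : leechLattice) := by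
    rw [← beta_eq, Co0Basic.map_add, h1, h2]
  rw [Co0Basic.map_zsmul] at h3
  apply Subtype.ext
  funext p
  have h4 := congrArg (fun v : leechLattice => (v : GolayPt → ℤ) p) h3
  simp only [AddSubgroup.coe_zsmul, Pi.smul_apply, smul_eq_mul] at h4
  exact mul_left_cancel₀ (by decide) h4

instance fact3 : Fact (Nat.Prime 3) := ⟨Nat.prime_three⟩

theorem not_dvd : ¬ 3 ∣ (PP dat).index := by
  have h1 := (PP dat).index_mul_card
  rw [card_PP dat injI, S0397.result] at h1
  have h2 : (PP dat).index * 3 ^ 9 = 422473891840000 * 3 ^ 9 := by rw [h1]; norm_num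
  rw [Nat.eq_of_mul_eq_mul_right (by norm_num) h2]
  norm_num

theorem meetIn : MeetIn 3 Spor.Co1 := by
  have hcard : Nat.card Spor.Co1 = 4157776806543360000 := NotCT.Orders.co1 ⟨MulEquiv.refl _⟩
  have : Finite Spor.Co1 := Nat.finite_of_card_ne_zero (by rw [hcard]; norm_num)
  have hP : IsPGroup 3 (PP dat) := IsPGroup.of_card (card_PP dat injI)
  refine MeetIn.of_one ((PP dat).map (QuotientGroup.mk' (center Co0))) (hP.map _) ?_
    ⟨QuotientGroup.mk' (center Co0) X, ?_⟩
  · rw [index_map, MonoidHom.range_eq_top.2 (QuotientGroup.mk'_surjective _), index_top, mul_one]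
    intro h
    exact not_dvd (h.trans (index_dvd_of_le le_sup_left))
  · rintro _ ⟨y, hy, rfl⟩ hxy
    rw [← map_inv, ← map_mul, ← map_mul] at hxy
    obtain ⟨z, hz, hzz⟩ := hxy
    have h1 : z⁻¹ * (X * y * X⁻¹) ∈ center Co0 := QuotientGroup.eq.1 hzz
    have h2 : (z⁻¹ * (X * y * X⁻¹)) = 1 := by
      rcases Co0Basic.eq_one_or_neg_of_mem_center h1 with h3 | h3
      · exact h3
      · exfalso
        obtain ⟨k, hk⟩ := hP ⟨z, hz⟩
        obtain ⟨l, hl⟩ := hP ⟨y, hy⟩
        have hk' : z ^ 3 ^ k = 1 := congrArg Subtype.val hk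
        have hl' : y ^ 3 ^ l = 1 := congrArg Subtype.val hl
        have h4 : X * y * X⁻¹ = z * Co0Basic.negCo0 := by rw [← h3]; group
        have hcomm : Commute z Co0Basic.negCo0 := (mem_center_iff.1 Co0Basic.negCo0_mem_center z)
        have h5 : (X * y * X⁻¹) ^ (3 ^ k * 3 ^ l) = 1 := by
          rw [conj_pow, mul_comm (3 ^ k), pow_mul, hl', one_pow, mul_one, mul_inv_cancel]
        rw [h4, hcomm.mul_pow, pow_mul, hk', one_pow, one_mul] at h5
        have hneg : Co0Basic.negCo0 ^ 2 = 1 := by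
          apply Subtype.ext
          apply Equiv.ext
          intro v
          rw [pow_two]
          show Co0Basic.negCo0.1 (Co0Basic.negCo0.1 v) = v
          rw [Co0Basic.negCo0_apply, Co0Basic.negCo0_apply, neg_neg]
        have h6 : Odd (3 ^ k * 3 ^ l) := (Odd.pow (by decide)).mul (Odd.pow (by decide))
        obtain ⟨n, hn⟩ := h6
        rw [hn, pow_add, pow_mul, hneg, one_pow, one_mul, pow_one] at h5
        exact Co0Basic.negCo0_ne_one h5
    have h3 : X * y * X⁻¹ = z := by
      rw [← mul_one z, ← h2]; group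
    rw [eq_one hy (h3 ▸ hz), map_one]

theorem meet3_Co1 {G : Type*} [Group G] [Finite G] [IsSimpleGroup G] (h : Cfsg.Spor.IsoCo1 G) :
    Cfsg.Agent.H903.SylMeet.Meet 3 G := by
  have hcard := NotCT.Orders.co1 h
  have hi := BpSpor.Inn.co1 h
  obtain ⟨e⟩ := h
  exact MeetIn.meet (hi 3 Nat.prime_three (by norm_num)) (not_comm_of_card (by rw [hcard]; norm_num)) (meetIn.congr e.symm)

end Cfsg.Agent.H232.MeetCo1
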