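import Cfsg.Agent.H232.MeetInv
import Cfsg.Agent.LThreeCo1.Class

/-!
# Data for `Meet 3 Co1` (helper232; generated)

`L1`, `L2`: sets of 9 and 27 vectors preserved by the Sylow 3-subgroup `3^6 : 3^(1+2)` of `Co0`.
-/

set_option autoImplicit false
set_option maxRecDepth 20000

namespace Cfsg.Agent.H232.MeetCo1

open Cfsg Cfsg.Agent.LThreeCo1.Ev Cfsg.Agent.LThreeCo1.Rel Cfsg.Agent.SporadicStructure.Co0Matrix
open Cfsg.Agent.CoOneType.CoEval Cfsg.Agent.CoOneType.CoFast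

def L1 : List (List ℤ) := [
  [0, -4, 0, 0, 0, 0, 2, 0, 0, 0, 0, 2, 0, 2, 2, 0, 2, -2, -2, -2, 0, 0, 0, 0],
  [0, 2, 0, 0, -2, 0, 2, 0, 2, 0, 0, -4, 0, -2, 0, 2, -2, 2, 0, 0, 0, 0, 0, 0],
  [0, 2, 0, 0, 2, 0, -4, 0, -2, 0, 0, 2, 0, 0, -2, -2, 0, 0, 2, 2, 0, 0, 0, 0],
  [3, -1, 1, -3, 1, 1, -1, 1, -1, 1, -1, -1, 3, -1, 1, -1, -1, 1, -1, -1, 1, 1, 1, 1],
  [-3, -1, 1, 3, -1, 1, -1, 1, 1, 1, -1, -1, -3, 1, -1, 1, 1, -1, 1, 1, 1, 1, 1, 1],
  [0, 2, -2, 0, 0, -2, 2, -2, 0, -2, 2, 2, 0, 0, 0, 0, 0, 0, 0, 0, -2, -2, -2, -2],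
  [-3, -1, -1, -3, 1, -1, -1, -1, -1, -1, -1, -1, -3, -1, 1, -1, -1, 1, -1, -1, 1, 1, -1, -1],
  [3, -1, -1, 3, -1, -1, -1, -1, 1, -1, -1, -1, 3, 1, -1, 1, 1, -1, 1, 1, 1, 1, -1, -1],
  [0, 2, 2, 0, 0, 2, 2, 2, 0, 2, 2, 2, 0, 0, 0, 0, 0, 0, 0, 0, -2, -2, 2, 2]]

def L2 : List (List ℤ) := [
  [0, 0, 0, 0, -2, -4, 0, 2, 0, 0, 0, 0, 0, 2, 2, -2, -2, 0, 2, 0, 0, 0, 0, 2],
  [0, 0, 0, 0, 0, 2, 0, -4, -2, 0, 0, 0, 0, 0, -2, 2, 2, 2, 0, -2, 0, 0, 0, 2],
  [0, 0, 0, 0, 2, 2, 0, 2, 2, 0, 0, 0, 0, -2, 0, 0, 0, -2, -2, 2, 0, 0, 0, -4],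
  [0, -2, 2, 0, 0, -2, -2, -2, 0, 2, 2, -2, 0, 0, 0, 0, 0, 0, 0, 0, -2, -2, 2, -2],
  [0, 0, 2, 0, -2, 0, 0, 0, -2, 2, 0, 0, 0, -2, 2, 0, 2, 0, 0, 2, 0, 0, -4, 0],
  [0, 0, 0, 0, -2, 4, 0, -2, 0, 0, 0, 0, 0, 2, 2, -2, -2, 0, 2, 0, 0, 0, 0, -2],
  [3, 1, -1, -3, -1, 1, 1, 1, 1, -1, -1, 1, -3, 1, -1, 1, 1, -1, 1, 1, 1, 1, -1, 1],
  [0, 0, -4, 0, 0, 0, 0, 0, 2, 2, 0, 0, 0, 2, -2, -2, 0, 2, -2, 0, 0, 0, 2, 0],
  [0, 0, 0, 0, 0, -2, 0, 4, -2, 0, 0, 0, 0, 0, -2, 2, 2, 2, 0, -2, 0, 0, 0, -2],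
  [-3, 1, -1, 3, 1, 1, 1, 1, -1, -1, -1, 1, 3, -1, 1, -1, -1, 1, -1, -1, 1, 1, -1, 1],
  [0, 0, 2, 0, 2, 0, 0, 0, 0, -4, 0, 0, 0, 0, 0, 2, -2, -2, 2, -2, 0, 0, 2, 0],
  [0, 0, 0, 0, 2, -2, 0, -2, 2, 0, 0, 0, 0, -2, 0, 0, 0, -2, -2, 2, 0, 0, 0, 4],
  [0, 0, -2, 0, -2, 0, 0, 0, -2, -2, 0, 0, 0, -2, 2, 0, 2, 0, 0, 2, 0, 0, 4, 0],
  [0, -2, -2, 0, 0, 2, -2, 2, 0, -2, 2, -2, 0, 0, 0, 0, 0, 0, 0, 0, -2, -2, -2, 2],
  [0, 0, 0, 0, 0, 0, 0, 0, 2, 0, 4, 0, 0, -2, 0, -2, 2, 0, 2, -2, 2, 2, 0, 0],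
  [0, 0, 0, 0, 0, 0, 0, 0, -2, 0, 4, 0, 0, 2, 0, 2, -2, 0, -2, 2, 2, 2, 0, 0],
  [0, 0, 4, 0, 0, 0, 0, 0, 2, -2, 0, 0, 0, 2, -2, -2, 0, 2, -2, 0, 0, 0, -2, 0],
  [-3, 1, 1, -3, -1, -1, 1, -1, 1, 1, -1, 1, 3, 1, -1, 1, 1, -1, 1, 1, 1, 1, 1, -1],
  [0, 0, 0, 0, 2, 0, 0, 0, 0, 0, -2, 0, 0, 2, 2, 2, 0, 2, 0, 2, -4, 2, 0, 0],
  [0, 0, 0, 0, 2, 0, 0, 0, 2, 0, -2, 0, 0, 0, 2, 0, 2, 2, 2, 0, 2, -4, 0, 0],
  [0, 0, -2, 0, 2, 0, 0, 0, 0, 4, 0, 0, 0, 0, 0, 2, -2, -2, 2, -2, 0, 0, -2, 0],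
  [3, 1, 1, 3, 1, -1, 1, -1, -1, 1, -1, 1, -3, -1, 1, -1, -1, 1, -1, -1, 1, 1, 1, -1],
  [0, 0, 0, 0, -2, 0, 0, 0, -2, 0, -2, 0, 0, 0, -2, 0, -2, -2, -2, 0, 2, -4, 0, 0],
  [0, 0, 0, 0, -2, 0, 0, 0, 0, 0, -2, 0, 0, -2, -2, -2, 0, -2, 0, -2, -4, 2, 0, 0],
  [0, -2, 0, 0, 2, 0, 4, 0, -2, 0, 0, -2, 0, 0, -2, -2, 0, 0, 2, 2, 0, 0, 0, 0],
  [0, -2, 0, 0, -2, 0, -2, 0, 2, 0, 0, 4, 0, -2, 0, 2, -2, 2, 0, 0, 0, 0, 0, 0],
  [0, 4, 0, 0, 0, 0, -2, 0, 0, 0, 0, -2, 0, 2, 2, 0, 2, -2, -2, -2, 0, 0, 0, 0]]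

/-- coefficients of `D • beta` -/
def C1 : List ℤ := [
  -28128268048603984111229952694681728, -14059141412425933145541011470024704, 0, 
  353980054387930077385363712335726797131713, 353980068447073965681783122282046457909183, 0, 
  -353807268807621926627900240125685632602177, -353807254748478038312591364247887390969919, 0]

def C2 : List ℤ := [
  14058982994786383271153249600667648, 0, -696898259984992198002060145328577193181184, 
  -343091018646460046554683262821840311283775, -10889008262080594533042537401920826376192, 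
  -696898300864188753557538975558691505307648, 14059143888296419409946319659728898, 
  13420245509910757989825967755878400, -696898314923171748343922246694353214898176, 0, 0, 0, 
  10889063220859467128613365416118301229056, 342918233066151895796924642706344914972607, 
  170127773512144567751833039115229593600, 2685935225026289046479356905843064832, 
  13420245509910757917768373717966848, 14059143888315308875877798240583678, 
  167496796754031193302085481761523892224, -167468658183767606669673897429122940928, 0, 0, 0, 0, 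
  28128268048603984111230227572588416, 14069126636178346113594120577482624, 0]

def D : ℤ := 3

/-- values of the invariant -/
def K1 : List (ℕ × ℕ) := [
  (3272343552, 4609709457408), (70917820416, 280398938112), (68820664320, 4475524235328), 
  (4400228339712, 4474418503680), (73014976512, 281479573684224), (3272343552, 4543120941120), 
  (4400261107776, 277228818432), (70917820416, 4475475464256), (3272343552, 4543120941120)]

def K2 : List (ℕ × ℕ) := [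
  (139620257856, 78519468096), (4400228339712, 146164944960), (139587489792, 4604474949696), 
  (137490333696, 148278104064), (3272343552, 8871374499840), (71974780992, 146164944960), 
  (138563297280, 146164944960), (4345307136, 4539999592512), (2248151040, 345947770881), 
  (70917820416, 4542063980544), (3272343552, 4543120941120), (4400228339712, 146164944960), 
  (70917820416, 8803729022976), (3272343552, 348044414976), (3272343552, 214867382400), 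
  (2248151040, 4475524235328), (4468930777152, 141986635776), (70917820416, 347995643904), 
  (4466833621056, 277228818432), (70917820416, 280398938112), (4400228339712, 146164944960), 
  (139620257856, 145107984384), (70917820416, 281483703222336), (3272343552, 4609709457408), 
  (71974780992, 4474418503680), (70917820416, 4475475464256), (70917820416, 210705588225)]

/-- `64 ^ (t / 8 + 4)` -/
def phi (t : ℤ) : ℕ := 64 ^ (t / 8 + 4).toNat

def FL (L : List (List ℤ)) (l : List ℤ) : ℕ := (L.map fun w => phi (dotZ l w)).sum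

/-- the matrix maps the list to itself -/
def mv (R : List (List ℤ)) (L : List (List ℤ)) : Bool := L.all fun l => L.any fun l' => eqL (apZ R l) l'

theorem k_leech1 : L1.all leechB = true := by decide +kernel
theorem k_leech2 : L2.all leechB = true := by decide +kernel

theorem k_nodup1 : L1.Nodup := by decide +kernel
theorem k_nodup2 : L2.Nodup := by decide +kernel

theorem k_len1 : (L1.all fun l => Nat.beq l.length 24) = true := by decide +kernel
theorem k_len2 : (L2.all fun l => Nat.beq l.length 24) = true := by decide +kernel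

theorem k_mv1 : ((List.range 9).all fun i => mv (M (i + 1)) L1) = true := by decide +kernel
theorem k_mv2 : ((List.range 9).all fun i => mv (M (i + 1)) L2) = true := by decide +kernel

theorem k_K1 : (L1.map fun l => (FL L1 (apZ (M 28) l), FL L2 (apZ (M 28) l))) = K1 := by decide +kernel
theorem k_K2 : (L2.map fun l => (FL L1 (apZ (M 28) l), FL L2 (apZ (M 28) l))) = K2 := by decide +kernel

theorem k_U1 : ((List.range 9).all fun i => decide (C1.getD i 0 = 0) ||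
    ((List.range 9).all fun j => decide (K1.getD j 0 = K1.getD i 0 → j = i))) = true := by decide +kernel
theorem k_U2 : ((List.range 27).all fun i => decide (C2.getD i 0 = 0) ||
    ((List.range 27).all fun j => decide (K2.getD j 0 = K2.getD i 0 → j = i))) = true := by decide +kernel

theorem k_beta : ((List.range 24).all fun k => decide
    ((∑ i ∈ Finset.range 9, C1.getD i 0 * (L1.getD i []).getD k 0) +
      (∑ i ∈ Finset.range 27, C2.getD i 0 * (L2.getD i []).getD k 0) = D * betaL.getD k 0)) = true := by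
  decide +kernel

end Cfsg.Agent.H232.MeetCo1
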