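import Cfsg.Agent.H232.MeetOwn
import Cfsg.Agent.Fischer.Y322Iso
import Cfsg.Agent.CpAutFiFive.Fi22
import Cfsg.Agent.NotCT.Orders

/-!
# `Meet 3` for `Fi22` (helper232)

`PΩ₇(3)` has index 14080 in `Fi22`.
-/

set_option autoImplicit false

namespace Cfsg.Agent.H232.MeetFi22

open Subgroup Cfsg Cfsg.Agent.H903.SylMeet Cfsg.Agent.H68.MeetB Cfsg.Agent.H232.MeetOwn

instance : Fact (Nat.Prime 3) := ⟨Nat.prime_three⟩

theorem meetIn_H : MeetIn 3 Fischer.Fi22Sub.H := by
  have := Fischer.Y322Iso.simple_H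
  have hcard := Fischer.Y322Iso.card_H
  have : Finite Fischer.Fi22Sub.H := Nat.finite_of_card_ne_zero (by rw [hcard]; norm_num)
  obtain ⟨e⟩ := Fischer.Y322Iso.main
  exact meetIn_of_meet (conj_injective (not_comm_of_card (by rw [hcard]; norm_num))) (meet_POmega7.congr e.symm)

theorem meetIn_fi22 : MeetIn 3 Spor.Fi22 := by
  have hcard : Nat.card Spor.Fi22 = 64561751654400 := NotCT.Orders.fi22 ⟨MulEquiv.refl _⟩
  have : Finite Spor.Fi22 := Nat.finite_of_card_ne_zero (by rw [hcard]; norm_num)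
  refine MeetIn.of_hom Fischer.Fi22Sub.H.subtype (subtype_injective _) ?_ meetIn_H
  have h1 := Fischer.Fi22Sub.H.index_mul_card
  rw [Fischer.Y322Iso.card_H, hcard] at h1
  rw [range_subtype]
  omega

theorem meet3_Fi22 {G : Type*} [Group G] [Finite G] [IsSimpleGroup G] (h : Cfsg.Spor.IsoFi22 G) :
    Cfsg.Agent.H903.SylMeet.Meet 3 G := by
  have hcard := NotCT.Orders.fi22 h
  obtain ⟨e⟩ := h
  exact MeetIn.meet (CpAut.AutInner.congr e.symm (CpAutFiFive.Fi22.inner Nat.prime_three (by norm_num)))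
    (not_comm_of_card (by rw [hcard]; norm_num)) (meetIn_fi22.congr e.symm)

end Cfsg.Agent.H232.MeetFi22
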