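import Cfsg.Agent.H826.M23.Inst
import Cfsg.Agent.H68.MeetBase
import Cfsg.Agent.BpSpor.Row.Fi23

/-!
# `Meet 3` for `Fi23` (helper232)

`ζ` : the 3-central element `z j i h f e`; `x = d e g h d`. The element `[ζ, ζ^x]` fixes two points besides the points of
`a`, `b`, `aba`, one of them is the point of `g`. So a 3-element `y` commuting with `ζ` and `ζ^x` commutes with `g` and
then with `d, e, f, h, i, j, z`, and `y ∈ ⟨a, b⟩`. As `(a b) (a b)^c` is an involution and `c ∈ C(ζ)`, there is a Sylow
3-subgroup of `C(ζ)` which does not contain `a b`.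
-/

set_option autoImplicit false
set_option linter.constructorNameAsVariable false
set_option maxRecDepth 100000

namespace Cfsg.Agent.H232.MeetFi23

open Subgroup Cfsg Cfsg.Agent.Lib.PermNet Cfsg.Agent.LThreeFi23 Cfsg.Agent.H826.M23
open Cfsg.Agent.Fischer.Fi23Hom Cfsg.Agent.H68.MeetB
open Cfsg.Spor (Fi23)
open Cfsg.Agent.H826.M23.Inst (zt)
open Cfsg.Agent.H826.M23.Data (wz fix_wz)

/-! ### Data -/

/-- the word `x` -/
def wx : List Lt := [.d, .e, .g, .h, .d]

/-- `ζ` -/
def w1 : List Lt := wz
/-- `ζ⁻¹` -/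
def w2 : List Lt := wz.reverse
/-- `x ζ x⁻¹` -/
def w3 : List Lt := wx ++ wz ++ wx.reverse
/-- its inverse -/
def w4 : List Lt := wx ++ wz.reverse ++ wx.reverse

theorem c_comm : Nat.beq (pattern [(w1 ++ w3 ++ w2 ++ w4, false)]) (mor [1876, 8004, 8005, 9592, 11589]) = true := by
  decide +kernel

theorem c_two : Nat.beq (pattern [(w1, false), (w3, false)]) (mor [8004, 9592, 11589]) = true := by decide +kernel

theorem c_sym : Nat.beq (pattern [([.d], false), ([.e], false), ([.f], false), ([.g], false), ([.h], false),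
    ([.i], false), ([.j], false), ([.z], false)]) (mor [8004, 9592, 11589]) = true := by decide +kernel

theorem c_c : Nat.beq (pattern [([.a], false), ([.b], true), ([.d], true), ([.e], false), ([.f], false), ([.g], false),
    ([.h], false), ([.i], false), ([.j], false), ([.z], false)]) (Nat.pow 2 8003) = true := by decide +kernel

theorem p_e : Nat.beq (ptw [w2, w4, w1].flatten 8005) 8001 = true := by decide +kernel
theorem p_f : Nat.beq (ptw [w3, w2].flatten 8005) 8002 = true := by decide +kernel
theorem p_h : Nat.beq (ptw [w4, w2, w3].flatten 8005) 7999 = true := by decide +kernel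
theorem p_i : Nat.beq (ptw [w2, w4, w2, w3].flatten 8005) 8007 = true := by decide +kernel
theorem p_j : Nat.beq (ptw [w4, w2, w3, w2, w4, w1].flatten 8005) 8006 = true := by decide +kernel
theorem p_z : Nat.beq (ptw [w2, w4, w2, w3, w2, w4, w1].flatten 8005) 0 = true := by decide +kernel
theorem p_d : Nat.beq (ptw [w3, w2, w3, w2, w3, w2, w4, w1].flatten 8005) 8000 = true := by decide +kernel

theorem q_a : Nat.beq (ptw [.a] 8004) 9592 = true := by decide +kernel
theorem q_a' : Nat.beq (ptw [.a] 11589) 11589 = true := by decide +kernel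
theorem q_b : Nat.beq (ptw [.b] 8004) 8004 = true := by decide +kernel
theorem q_b' : Nat.beq (ptw [.b] 11589) 9592 = true := by decide +kernel
theorem q_ab : Nat.beq (ptw [.a, .b] 8004) 9592 = true := by decide +kernel
theorem q_ab' : Nat.beq (ptw [.a, .b] 11589) 8004 = true := by decide +kernel
theorem q_ba : Nat.beq (ptw [.b, .a] 8004) 11589 = true := by decide +kernel
theorem q_ba' : Nat.beq (ptw [.b, .a] 11589) 9592 = true := by decide +kernel
theorem q_aba : Nat.beq (ptw [.a, .b, .a] 8004) 11589 = true := by decide +kernel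
theorem q_aba' : Nat.beq (ptw [.a, .b, .a] 11589) 8004 = true := by decide +kernel

theorem c_inv : checkEq 15 (ntw ([.a, .b, .c] ++ [.a, .b, .c] ++ [.a, .b, .c] ++ [.a, .b, .c])) (ntw []) = true := by
  decide +kernel

theorem c_ninv : Nat.beq (ptw ([.a, .b, .c] ++ [.a, .b, .c]) 8000) 8000 = false := by decide +kernel

/-! ### Elements commuting with words -/

theorem comm_flatten {y : Fi23} {L : List (List Lt)} (h : ∀ w ∈ L, Commute y (elw w)) : Commute y (elw L.flatten) := by
  induction L with
  | nil => exact Commute.one_right y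
  | cons w L ih =>
    rw [List.flatten_cons, elw_append]
    exact (h w List.mem_cons_self).mul_right (ih fun v hv => h v (List.mem_cons_of_mem _ hv))

theorem fix_pt {y : Fi23} {L : List (List Lt)} (h : ∀ w ∈ L, Commute y (elw w)) (hg : rho y 8005 = 8005) {q : ℕ}
    (hq : Nat.beq (ptw L.flatten 8005) q = true) : rho y q = q := by
  have h1 := Nat.eq_of_beq_eq_true hq
  rw [ptw_eq] at h1
  rw [← h1, ← Equiv.Perm.mul_apply, ← map_mul, (comm_flatten h).eq, map_mul, Equiv.Perm.mul_apply, hg]

theorem fix_two {y : Fi23} {k : ℕ} (hy : y ^ 3 ^ k = 1) {p : ℕ} (h : rho y (rho y p) = p) : rho y p = p := by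
  obtain ⟨m, hm⟩ : Odd (3 ^ k) := Odd.pow (by decide)
  have h1 : rho ((y * y) ^ m) p = p := by
    rw [map_pow, map_mul]
    exact Equiv.Perm.pow_apply_eq_self_of_apply_eq_self (by rw [Equiv.Perm.mul_apply]; exact h) m
  have h2 : y * (y * y) ^ m = 1 := by
    rw [← pow_two, ← pow_mul, ← pow_succ', ← hm, hy]
  have h3 : rho (y * (y * y) ^ m) p = p := by rw [h2, map_one]; rfl
  rw [map_mul, Equiv.Perm.mul_apply, h1] at h3
  exact h3

theorem com_el {u : Fi23} {x : Lt} (h : Commute u (el x)) : u * elw [x] = elw [x] * u := by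
  rw [elw_cons, elw_nil, mul_one]
  exact h.eq

theorem triv {u : Fi23} (ha : Commute u (el .a)) (hb : Commute u (el .b)) (hd : Commute u (el .d))
    (he : Commute u (el .e)) (hf : Commute u (el .f)) (hg : Commute u (el .g)) (hh : Commute u (el .h))
    (hi : Commute u (el .i)) (hj : Commute u (el .j)) (hz : Commute u (el .z)) : u = 1 := by
  have hc : rho u 8003 = 8003 := by
    refine pattern_single c_c ?_
    intro c hc
    simp only [List.mem_cons, List.not_mem_nil, or_false] at hc
    rcases hc with rfl | rfl | rfl | rfl | rfl | rfl | rfl | rfl | rfl | rfl <;> exact com_el (by assumption)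
  have hc' : u * el .c = el .c * u := (fix_pt_iff u .c).1 hc
  apply eq_one_of_comm
  intro x
  cases x
  · exact ha.eq
  · exact hb.eq
  · exact hc'
  · exact hd.eq
  · exact he.eq
  · exact hf.eq
  · exact hg.eq
  · exact hh.eq
  · exact hi.eq
  · exact hj.eq
  · exact hz.eq

theorem cases3 {cs : List (List Lt × Bool)} {l : List ℕ} (h : Nat.beq (pattern cs) (mor l) = true) {y : Fi23}
    (hy : ∀ c ∈ cs, Commute y (elw c.1)) {p : ℕ} (hp : p ∈ l) : rho y p ∈ l := by
  rw [← testBit_mor]
  exact pattern_act h (fun c hc => (hy c hc).eq) ((testBit_mor l p).2 hp)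

/-- **a 3-element commuting with `ζ` and `x ζ x⁻¹` is in `⟨a, b⟩`** -/
theorem mem_six {y : Fi23} {k : ℕ} (hk : y ^ 3 ^ k = 1) (h1 : Commute y (elw w1)) (h3 : Commute y (elw w3)) :
    y = 1 ∨ y = el .a ∨ y = el .b ∨ y = el .a * el .b ∨ y = el .b * el .a ∨ y = el .a * el .b * el .a := by
  have h2 : Commute y (elw w2) := by
    unfold w2
    rw [elw_reverse]
    exact h1.inv_right
  have h4 : Commute y (elw w4) := by
    have : w4 = w3.reverse := by decide
    rw [this, elw_reverse]
    exact h3.inv_right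
  -- `y` fixes the point of `g`
  have hg : rho y 8005 = 8005 := by
    have key : ∀ p ∈ [1876, 8005], rho y p ∈ [1876, 8005] := by
      intro p hp
      have a1 : rho y p ∈ [1876, 8004, 8005, 9592, 11589] := by
        refine cases3 c_comm ?_ ?_
        · intro c hc
          rw [List.mem_singleton] at hc
          subst hc
          have := comm_flatten (L := [w1, w3, w2, w4]) (y := y) (by
            intro w hw
            simp only [List.mem_cons, List.not_mem_nil, or_false] at hw
            rcases hw with rfl | rfl | rfl | rfl <;> assumption)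
          simpa only [List.flatten_cons, List.flatten_nil, List.append_nil, List.append_assoc] using this
        · simp only [List.mem_cons, List.not_mem_nil, or_false] at hp ⊢
          rcases hp with rfl | rfl
          · exact Or.inl rfl
          · exact Or.inr (Or.inr (Or.inl rfl))
      have a2 : rho y p ∉ [8004, 9592, 11589] := by
        intro hc
        have a3 : rho y⁻¹ (rho y p) ∈ [8004, 9592, 11589] := by
          refine cases3 c_two ?_ hc
          intro c hc
          simp only [List.mem_cons, List.not_mem_nil, or_false] at hc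
          rcases hc with rfl | rfl
          · exact h1.inv_left
          · exact h3.inv_left
        rw [← Equiv.Perm.mul_apply, ← map_mul, inv_mul_cancel, map_one, Equiv.Perm.one_apply] at a3
        simp only [List.mem_cons, List.not_mem_nil, or_false] at a3 hp
        omega
      simp only [List.mem_cons, List.not_mem_nil, or_false] at a1 a2 ⊢
      omega
    apply fix_two hk
    have b1 := key 8005 (by decide)
    have b2 := key 1876 (by decide)
    simp only [List.mem_cons, List.not_mem_nil, or_false] at b1 b2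
    rcases b1 with b1 | b1
    · rw [b1]
      rcases b2 with b2 | b2
      · exact absurd ((rho y).injective (b1.trans b2.symm)) (by norm_num)
      · exact b2
    · rw [b1, b1]
  have hall : ∀ w ∈ [w1, w2, w3, w4], Commute y (elw w) := by
    intro w hw
    simp only [List.mem_cons, List.not_mem_nil, or_false] at hw
    rcases hw with rfl | rfl | rfl | rfl <;> assumption
  have hsub : ∀ {L : List (List Lt)}, (∀ w ∈ L, w ∈ [w1, w2, w3, w4]) → ∀ w ∈ L, Commute y (elw w) :=
    fun h w hw => hall w (h w hw)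
  have cg : Commute y (el .g) := (fix_pt_iff y .g).1 hg
  have ce : Commute y (el .e) := (fix_pt_iff y .e).1 (fix_pt (hsub (by decide)) hg p_e)
  have cf : Commute y (el .f) := (fix_pt_iff y .f).1 (fix_pt (hsub (by decide)) hg p_f)
  have ch : Commute y (el .h) := (fix_pt_iff y .h).1 (fix_pt (hsub (by decide)) hg p_h)
  have ci : Commute y (el .i) := (fix_pt_iff y .i).1 (fix_pt (hsub (by decide)) hg p_i)
  have cj : Commute y (el .j) := (fix_pt_iff y .j).1 (fix_pt (hsub (by decide)) hg p_j)
  have cz : Commute y (el .z) := (fix_pt_iff y .z).1 (fix_pt (hsub (by decide)) hg p_z)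
  have cd : Commute y (el .d) := (fix_pt_iff y .d).1 (fix_pt (hsub (by decide)) hg p_d)
  -- the letters `a` and `b` commute with the eight letters
  have hl : ∀ s ∈ [Lt.a, .b], ∀ x ∈ [Lt.d, .e, .f, .g, .h, .i, .j, .z], Commute (el s) (el x) := by
    have hf : ∀ x ∈ [Lt.d, .e, .f, .g, .h, .i, .j, .z], ∀ s ∈ [Lt.a, .b], rho (el x) (pt s) = pt s := by
      intro x hx s hs
      have h5 := (testBit_pattern [([.d], false), ([.e], false), ([.f], false), ([.g], false), ([.h], false),
        ([.i], false), ([.j], false), ([.z], false)] (pt s)).1 (by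
          rw [Nat.eq_of_beq_eq_true c_sym, testBit_mor]
          simp only [List.mem_cons, List.not_mem_nil, or_false] at hs ⊢
          rcases hs with rfl | rfl
          · exact Or.inr (Or.inr rfl)
          · exact Or.inl rfl)
      have h6 := h5.2 ([x], false) (by
        simp only [List.mem_cons, List.not_mem_nil, or_false] at hx ⊢
        rcases hx with rfl | rfl | rfl | rfl | rfl | rfl | rfl | rfl <;> simp)
      rw [elw_cons, elw_nil, mul_one] at h6
      by_contra hne
      exact absurd (h6.1 hne) (by simp)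
    intro s hs x hx
    exact ((fix_pt_iff (el x) s).1 (hf x hx s hs)).symm
  have hF : ∀ p ∈ [8004, 9592, 11589], rho y p ∈ [8004, 9592, 11589] := by
    intro p hp
    refine cases3 c_sym ?_ hp
    intro c hc
    simp only [List.mem_cons, List.not_mem_nil, or_false] at hc
    rcases hc with rfl | rfl | rfl | rfl | rfl | rfl | rfl | rfl <;> exact com_el (by assumption)
  -- compare with an element of `⟨a, b⟩`
  have fin : ∀ l : List Lt, (∀ s ∈ l, s ∈ [Lt.a, .b]) → rho y 8004 = rho (elw l) 8004 →
      rho y 11589 = rho (elw l) 11589 → y = elw l := by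
    intro l hl' e1 e2
    have hcl : ∀ x ∈ [Lt.d, .e, .f, .g, .h, .i, .j, .z], Commute (elw l) (el x) := by
      intro x hx
      clear e1 e2
      induction l with
      | nil => exact Commute.one_left _
      | cons s l ih =>
        rw [elw_cons]
        exact (hl s (hl' s List.mem_cons_self) x hx).mul_left (ih fun t ht => hl' t (List.mem_cons_of_mem _ ht))
    have hu : ∀ x ∈ [Lt.d, .e, .f, .g, .h, .i, .j, .z], Commute y (el x) → Commute ((elw l)⁻¹ * y) (el x) :=
      fun x hx h => (hcl x hx).inv_left.mul_left h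
    have hpt : ∀ p, rho y p = rho (elw l) p → rho ((elw l)⁻¹ * y) p = p := by
      intro p hp
      rw [map_mul, Equiv.Perm.mul_apply, hp, ← Equiv.Perm.mul_apply, ← map_mul, inv_mul_cancel, map_one]
      rfl
    have h5 : (elw l)⁻¹ * y = 1 := triv ((fix_pt_iff _ .a).1 (hpt _ e2)) ((fix_pt_iff _ .b).1 (hpt _ e1))
      (hu .d (by decide) cd) (hu .e (by decide) ce) (hu .f (by decide) cf) (hu .g (by decide) cg)
      (hu .h (by decide) ch) (hu .i (by decide) ci) (hu .j (by decide) cj) (hu .z (by decide) cz)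
    exact (inv_mul_eq_one.1 h5).symm
  have fin' : ∀ l : List Lt, (∀ s ∈ l, s ∈ [Lt.a, .b]) → ∀ {p q : ℕ}, Nat.beq (ptw l 8004) p = true →
      Nat.beq (ptw l 11589) q = true → rho y 8004 = p → rho y 11589 = q → y = elw l := by
    intro l hl' p q hp hq e1 e2
    have h5 := Nat.eq_of_beq_eq_true hp
    have h6 := Nat.eq_of_beq_eq_true hq
    rw [ptw_eq] at h5 h6
    exact fin l hl' (e1.trans h5.symm) (e2.trans h6.symm)
  have b1 := hF 8004 (by decide)
  have b2 := hF 11589 (by decide)
  have hne : rho y 8004 ≠ rho y 11589 := fun h => absurd ((rho y).injective h) (by norm_num)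
  simp only [List.mem_cons, List.not_mem_nil, or_false] at b1 b2
  have e2 : ∀ s t : Lt, elw [s, t] = el s * el t := fun s t => by rw [elw_cons, elw_cons, elw_nil, mul_one]
  have e3 : ∀ s t u : Lt, elw [s, t, u] = el s * el t * el u := fun s t u => by
    rw [elw_cons, e2, mul_assoc]
  have e1 : ∀ s : Lt, elw [s] = el s := fun s => by rw [elw_cons, elw_nil, mul_one]
  rcases b1 with b1 | b1 | b1 <;> rcases b2 with b2 | b2 | b2
  · exact absurd (b1.trans b2.symm) hne
  · exact Or.inr (Or.inr (Or.inl ((fin' [.b] (by decide) q_b q_b' b1 b2).trans (e1 _))))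
  · exact Or.inl (fin [] (by decide) (b1.trans (by rw [elw_nil, map_one]; rfl)) (b2.trans (by rw [elw_nil, map_one]; rfl)))
  · exact Or.inr (Or.inr (Or.inr (Or.inl ((fin' [.a, .b] (by decide) q_ab q_ab' b1 b2).trans (e2 _ _)))))
  · exact absurd (b1.trans b2.symm) hne
  · exact Or.inr (Or.inl ((fin' [.a] (by decide) q_a q_a' b1 b2).trans (e1 _)))
  · exact Or.inr (Or.inr (Or.inr (Or.inr (Or.inr ((fin' [.a, .b, .a] (by decide) q_aba q_aba' b1 b2).trans (e3 _ _ _))))))
  · exact Or.inr (Or.inr (Or.inr (Or.inr (Or.inl ((fin' [.b, .a] (by decide) q_ba q_ba' b1 b2).trans (e2 _ _))))))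
  · exact absurd (b1.trans b2.symm) hne

/-! ### The Sylow subgroup -/

instance fact3 : Fact (Nat.Prime 3) := ⟨Nat.prime_three⟩

theorem zt_eq : zt = elw w1 := rfl

theorem c_comm_zt : Commute (el .c) zt := by
  have h1 : Commute (elw wz) (T 8003) := commute_of_fix (by norm_num) (fixl_spec fix_wz 8003 (by decide))
  have h2 : T 8003 = el .c := T_pt .c
  rw [h2] at h1
  exact h1.symm

theorem eq_one_of_sq {P : Subgroup Fi23} (hP : IsPGroup 3 P) {u : Fi23} (hu : u ∈ P) (h : u * u = 1) : u = 1 := by
  obtain ⟨k, hk⟩ := hP ⟨u, hu⟩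
  have hk' : u ^ 3 ^ k = 1 := congrArg Subtype.val hk
  obtain ⟨m, hm⟩ : Odd (3 ^ k) := Odd.pow (by decide)
  rw [hm, pow_succ, pow_mul, pow_two, h, one_pow, one_mul] at hk'
  exact hk'

theorem meetIn_of {Q : Sylow 3 Fi23} (hQ : ∀ q ∈ (Q : Subgroup Fi23), Commute q zt)
    (hab : el .a * el .b ∉ (Q : Subgroup Fi23)) : MeetIn 3 Fi23 := by
  refine MeetIn.of_one (Q : Subgroup Fi23) Q.isPGroup' Q.not_dvd_index ⟨(elw wx)⁻¹, fun y hy hxy => ?_⟩
  obtain ⟨k, hk⟩ := Q.isPGroup' ⟨y, hy⟩
  have hk' : y ^ 3 ^ k = 1 := congrArg Subtype.val hk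
  have h1 : Commute y (elw w1) := hQ y hy
  have h3 : Commute y (elw w3) := by
    have h4 := hQ _ hxy
    have h5 : elw w3 = elw wx * zt * (elw wx)⁻¹ := by
      unfold w3
      rw [elw_append, elw_append, elw_reverse]
      rfl
    rw [h5]
    have h6 : (elw wx)⁻¹ * y * (elw wx)⁻¹⁻¹ * zt = zt * ((elw wx)⁻¹ * y * (elw wx)⁻¹⁻¹) := h4.eq
    rw [inv_inv] at h6
    show y * (elw wx * zt * (elw wx)⁻¹) = elw wx * zt * (elw wx)⁻¹ * y
    calc y * (elw wx * zt * (elw wx)⁻¹) = elw wx * ((elw wx)⁻¹ * y * elw wx * zt) * (elw wx)⁻¹ := by group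
      _ = elw wx * (zt * ((elw wx)⁻¹ * y * elw wx)) * (elw wx)⁻¹ := by rw [h6]
      _ = _ := by group
  have hinv : (el .a * el .b)⁻¹ = el .b * el .a := by rw [mul_inv_rev, el_inv, el_inv]
  have hsq : ∀ x : Lt, el x ∈ (Q : Subgroup Fi23) → el x = 1 := fun x hx =>
    eq_one_of_sq Q.isPGroup' hx (el_sq x)
  rcases mem_six hk' h1 h3 with rfl | rfl | rfl | rfl | rfl | rfl
  · rfl
  · exact hsq _ hy
  · exact hsq _ hy
  · exact absurd hy hab
  · rw [← hinv, inv_mem_iff] at hy
    exact absurd hy hab
  · apply eq_one_of_sq Q.isPGroup' hy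
    calc el .a * el .b * el .a * (el .a * el .b * el .a)
        = el .a * el .b * (el .a * el .a) * el .b * el .a := by group
      _ = el .a * (el .b * el .b) * el .a := by rw [el_sq, mul_one, mul_assoc (el .a)]
      _ = 1 := by rw [el_sq, mul_one, el_sq]

/-- the involution `(a b c)²` -/
theorem inv_sq : (el .a * el .b * el .c * (el .a * el .b * el .c)) * (el .a * el .b * el .c * (el .a * el .b * el .c)) = 1 := by
  have h := elw_eq_of_checkEq c_inv
  have e3 : ∀ s t u : Lt, elw [s, t, u] = el s * el t * el u := fun s t u => by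
    rw [elw_cons, elw_cons, elw_cons, elw_nil, mul_one, mul_assoc]
  rw [elw_append, elw_append, elw_append, e3, elw_nil] at h
  rw [← h]
  group

theorem inv_ne : el .a * el .b * el .c * (el .a * el .b * el .c) ≠ 1 := by
  intro h1
  have e3 : ∀ s t u : Lt, elw [s, t, u] = el s * el t * el u := fun s t u => by
    rw [elw_cons, elw_cons, elw_cons, elw_nil, mul_one, mul_assoc]
  have h2 : elw ([.a, .b, .c] ++ [.a, .b, .c]) = 1 := by rw [elw_append, e3, h1]
  have h3 := c_ninv
  rw [ptw_eq, h2, map_one] at h3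
  exact absurd h3 (by decide)

theorem exists_sylow : ∃ Q : Sylow 3 Fi23, ∀ q ∈ (Q : Subgroup Fi23), Commute q zt := by
  have hfin := finG
  obtain ⟨P⟩ : Nonempty (Sylow 3 Fi23) := inferInstance
  have h3 : 3 ∣ Nat.card Fi23 := by rw [card_G]; norm_num
  have hnt : Nontrivial ↥(P : Subgroup Fi23) := by
    rw [← Finite.one_lt_card_iff_nontrivial]
    exact lt_of_lt_of_le (by norm_num) (Nat.le_of_dvd Nat.card_pos (P.dvd_card_of_dvd_card h3))
  have hc : Nontrivial (center ↥(P : Subgroup Fi23)) := P.isPGroup'.center_nontrivial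
  have h3c : 3 ∣ Nat.card (center ↥(P : Subgroup Fi23)) := by
    have := (P.isPGroup'.to_subgroup (center ↥(P : Subgroup Fi23)))
    obtain ⟨n, hn⟩ := this.exists_card_eq
    rw [hn]
    refine dvd_pow_self 3 ?_
    rintro rfl
    rw [pow_zero] at hn
    exact absurd hn (ne_of_gt (Finite.one_lt_card_iff_nontrivial.2 hc))
  obtain ⟨z, hz⟩ := exists_prime_orderOf_dvd_card' 3 h3c
  set z' : Fi23 := ((z : ↥(P : Subgroup Fi23)) : Fi23) with hz'
  have hord : orderOf z' = 3 := by
    rw [hz', Subgroup.orderOf_coe, Subgroup.orderOf_coe, hz]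
  obtain ⟨g, hg⟩ := Cfsg.Agent.H826.M23.Inst.setup.conj_of_central P (zpowers z')
    (by rw [Nat.card_zpowers, hord]) (by
      rw [zpowers_le]
      exact ⟨z, z.2, rfl⟩)
  -- `g ζ g⁻¹` is in `⟨z'⟩`
  have h4 : g * zt * g⁻¹ ∈ zpowers z' := by
    rw [hg]
    exact ⟨zt, mem_zpowers zt, rfl⟩
  have h5 : ∀ q ∈ (P : Subgroup Fi23), Commute q (g * zt * g⁻¹) := by
    intro q hq
    obtain ⟨n, hn⟩ := h4
    rw [← hn]
    have h6 : Commute q z' := by
      have := (mem_center_iff.1 z.2 ⟨q, hq⟩)
      exact congrArg Subtype.val this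
    exact h6.zpow_right n
  refine ⟨g⁻¹ • P, fun q hq => ?_⟩
  rw [Sylow.smul_def] at hq
  obtain ⟨s, hs, rfl⟩ := (mem_smul_pointwise_iff_exists _ _ _).1 hq
  have h6 := (h5 s hs).eq
  show g⁻¹ * s * g⁻¹⁻¹ * zt = zt * (g⁻¹ * s * g⁻¹⁻¹)
  rw [inv_inv]
  calc g⁻¹ * s * g * zt = g⁻¹ * (s * (g * zt * g⁻¹)) * g := by group
    _ = g⁻¹ * (g * zt * g⁻¹ * s) * g := by rw [h6]
    _ = zt * (g⁻¹ * s * g) := by group

theorem meetIn : MeetIn 3 Fi23 := by
  have hfin := finG
  obtain ⟨Q, hQ⟩ := exists_sylow
  by_cases h : el .a * el .b ∈ (Q : Subgroup Fi23)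
  · -- the conjugate by `c`
    have hmem : ∀ q, q ∈ ((el .c • Q : Sylow 3 Fi23) : Subgroup Fi23) → el .c * q * el .c ∈ (Q : Subgroup Fi23) := by
      intro q hq
      rw [Sylow.smul_def] at hq
      obtain ⟨s, hs, rfl⟩ := (mem_smul_pointwise_iff_exists _ _ _).1 hq
      show el .c * (el .c * s * (el .c)⁻¹) * el .c ∈ _
      rw [el_inv]
      have : el .c * (el .c * s * el .c) * el .c = (el .c * el .c) * s * (el .c * el .c) := by group
      rw [this, el_sq, one_mul, mul_one]
      exact hs
    refine meetIn_of (Q := el .c • Q) (fun q hq => ?_) fun hab => ?_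
    · have h1 := hQ _ (hmem q hq)
      have h2 : Commute (el .c * (el .c * q * el .c) * el .c) zt :=
        (c_comm_zt.mul_left h1).mul_left c_comm_zt
      have : el .c * (el .c * q * el .c) * el .c = (el .c * el .c) * q * (el .c * el .c) := by group
      rwa [this, el_sq, one_mul, mul_one] at h2
    · have h1 := hmem _ hab
      have h2 := mul_mem h h1
      have h3 : el .a * el .b * (el .c * (el .a * el .b) * el .c) = el .a * el .b * el .c * (el .a * el .b * el .c) := by
        group
      rw [h3] at h2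
      exact inv_ne (eq_one_of_sq Q.isPGroup' h2 inv_sq)
  · exact meetIn_of hQ h

theorem meet3_Fi23 {G : Type*} [Group G] [Finite G] [IsSimpleGroup G] (h : Cfsg.Spor.IsoFi23 G) :
    Cfsg.Agent.H903.SylMeet.Meet 3 G := by
  have D := BpSpor.Row.dat_fi23 h
  obtain ⟨e⟩ := h
  exact MeetIn.meet (D.inn 3 Nat.prime_three (by norm_num)) (not_comm_of_card (by rw [D.card]; norm_num))
    (meetIn.congr e.symm)

end Cfsg.Agent.H232.MeetFi23
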