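import Cfsg.Agent.H232.MeetFi24K
import Cfsg.Agent.H841.TwG
import Cfsg.Agent.H68.MeetBase
import Cfsg.Agent.BpSpor.Row.Fi24

/-!
# `Meet 3` for `Fi24'` (helper232)

`x3 ∈ S₉ ≤ S₉ × S₅ ≤ Fi24` is 3-central, `⟨x3, x3^g⟩ = A₉` for some `g ∈ S₉`.
* `R_one` : an element commuting with `x3` and `x3^g` commutes with `S₉`;
* `card_le_three` : a 3-subgroup of `C(S₉)` has order at most 3;
* for a Sylow 3-subgroup `P ≤ C(x3)` one of `P ∩ P^g`, `P^{y0} ∩ P^g` is trivial (`y0 ∈ C(S₉)` of order 5).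
-/

set_option autoImplicit false
set_option maxRecDepth 100000
set_option Elab.async false

namespace Cfsg.Agent.H232.MeetFi24

open Cfsg Cfsg.Agent.Lib.PermNet Cfsg.Agent.Lib.PermNetPt Cfsg.Agent.Fischer.Fi24RepDef Cfsg.Agent.Fischer.Fi24Rep
open Cfsg.Agent.Fischer.Fi24RepOrb (UG)
open Cfsg.Agent.Fischer.Fi24Spider (word_append word_cons word_nil)
open Cfsg.Agent.KFacts.FiTF.Pts (rho_of_chkPt IsPt)
open Cfsg.Agent.KFacts.FiTF.FixMask (sv bl msk sv_spec testBit_msk pn isPt_gen)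
open Cfsg.Agent.LThreeFi24.SNine
open Cfsg.Agent.LThreeFi24.SNineK (T fixB)
open Cfsg.Agent.H232.MeetFi24K
open Cfsg.Agent.H68.MeetB
open Cfsg.Spor (Fi24)
open Cfsg.Spor.Fi24 (Gen)
open Equiv

/-! ### Points -/

theorem mvB_spec {w : List Gen} : ∀ {l : List ℕ}, mvB (nw w false) l = true → ∀ p ∈ l, rho (word w) p ≠ p
  | [], _, p, hp => absurd hp (by simp)
  | q :: l, h, p, hp => by
    have h1 : and (Bool.rec true false (chkPt (nw w false) q q)) (mvB (nw w false) l) = true := h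
    rw [Bool.and_eq_true] at h1
    rcases List.mem_cons.1 hp with rfl | hp
    · intro h2
      have h3 : chkPt (nw w false) p p = true := by
        show Nat.beq (winv (nw w false) p) p = true
        rw [winv_eq (wok w false), ← rho_word, Perm.inv_eq_iff_eq.2 h2.symm]
        exact Nat.beq_refl p
      have h4 := h1.1
      rw [h3] at h4
      exact absurd h4 (by decide)
    · exact mvB_spec h1.2 p hp

theorem wtB_spec : ∀ {l : List (ℕ × List Gen)}, wtB l = true → ∀ c ∈ l, rho (word c.2) c.1 = 0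
  | [], _, c, hc => absurd hc (by simp)
  | q :: l, h, c, hc => by
    have h1 : and (chkPt (nw q.2 false) q.1 0) (wtB l) = true := h
    rw [Bool.and_eq_true] at h1
    rcases List.mem_cons.1 hc with rfl | hc
    · exact rho_of_chkPt h1.1
    · exact wtB_spec h1.2 c hc

theorem word_one (x : Gen) : word [x] = gen x := by rw [word_cons, word_nil, mul_one]

/-- a word in `l, k, a, b` commutes with `S₉` -/
theorem word_comm {w : List Gen} (hw : ∀ x ∈ w, x = .l ∨ x = .k ∨ x = .a ∨ x = .b) {g : Fi24} (hg : g ∈ S9) :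
    Commute g (word w) := by
  induction w with
  | nil => rw [word_nil]; exact Commute.one_right g
  | cons x w ih =>
    rw [word_cons]
    exact Commute.mul_right (S9_comm hg x (hw x List.mem_cons_self)) (ih fun y hy => hw y (List.mem_cons_of_mem _ hy))

theorem exists_word {p : ℕ} (hp : p ∈ m10) : ∃ c : Fi24, (∀ g ∈ S9, Commute g c) ∧ rho c p = 0 := by
  have h1 : ∃ c ∈ wt, c.1 = p ∧ ∀ x ∈ c.2, x = .l ∨ x = .k ∨ x = .a ∨ x = .b := by
    revert p
    decide
  obtain ⟨c, hc, rfl, hx⟩ := h1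
  exact ⟨word c.2, fun g hg => word_comm hx hg, wtB_spec wt_ok c hc⟩

theorem S9_zero {v : Fi24} (hv : v ∈ S9) : rho v 0 = 0 := fix_of_comm (x := .l) (S9_comm hv .l (by simp))

/-- the ten points are fixed by `S₉` -/
theorem ten_fix {p : ℕ} (hp : p ∈ m10) {v : Fi24} (hv : v ∈ S9) : rho v p = p := by
  obtain ⟨c, hc, h0⟩ := exists_word hp
  apply (rho c).injective
  rw [← Perm.mul_apply, ← map_mul, ← (hc v hv).eq, map_mul, Perm.mul_apply, h0, S9_zero hv]

theorem UG_ten {p : ℕ} (hp : p ∈ m10) : UG.testBit p = true := by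
  obtain ⟨c, -, h0⟩ := exists_word hp
  have h1 : p = rho c⁻¹ 0 := by rw [← h0, ← Perm.mul_apply, ← map_mul, inv_mul_cancel, map_one]; rfl
  rw [h1]
  exact UG_rho (UG_pn .l) _

theorem gen_mem (x : Gen) (hx : x = .j ∨ x = .g ∨ x = .f ∨ x = .e ∨ x = .d ∨ x = .h ∨ x = .i) : gen x ∈ S9 := by
  obtain ⟨h0, h1, h2, h3, h4, h5, h6⟩ := s_gen
  rcases hx with rfl | rfl | rfl | rfl | rfl | rfl | rfl
  · rw [← h0]; exact s_mem 0
  · rw [← h1]; exact s_mem 1
  · rw [← h2]; exact s_mem 2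
  · rw [← h3]; exact s_mem 3
  · rw [← h4]; exact s_mem 4
  · rw [← h5]; exact s_mem 5
  · rw [← h6]; exact s_mem 6

/-- `C(S₉)` acts on the ten points -/
theorem ten_act {n : Fi24} (h : R n 1) {p : ℕ} (hp : p ∈ m10) : rho n p ∈ m10 := by
  have h1 := ten_sieve (UG_rho (UG_ten hp) n) (fun x hx =>
    fixed_of_comm (h.comm_S9 (gen_mem x hx)) (ten_fix hp (gen_mem x hx)))
  exact h1

theorem R_of_comm {n : Fi24} (h : ∀ g ∈ S9, Commute g n) : R n 1 :=
  R_one_of fun k => ((isPt_s k).comm_iff n).1 (h _ (s_mem k)).symm.eq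

theorem fix_two {y : Fi24} {k : ℕ} (hy : y ^ 3 ^ k = 1) {p : ℕ} (h : rho y (rho y p) = p) : rho y p = p := by
  obtain ⟨m, hm⟩ : Odd (3 ^ k) := Odd.pow (by decide)
  have h1 : rho ((y * y) ^ m) p = p := by
    rw [map_pow, map_mul]
    exact Perm.pow_apply_eq_self_of_apply_eq_self (by rw [Perm.mul_apply]; exact h) m
  have h2 : y * (y * y) ^ m = 1 := by
    rw [← pow_two, ← pow_mul, ← pow_succ', ← hm, hy]
  have h3 : rho (y * (y * y) ^ m) p = p := by rw [h2, map_one]; rfl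
  rw [map_mul, Perm.mul_apply, h1] at h3
  exact h3

/-! ### Elements commuting with `x3` and `x3^g` -/

theorem eq_of_R {g h : Fi24} {σ : Perm (Fin 9)} (hg : g ∈ S9) (hh : h ∈ S9) (h1 : R g σ) (h2 : R h σ) : g = h := by
  have h3 := h1.mul h2.inv
  rw [mul_inv_cancel] at h3
  exact mul_inv_eq_one.1 (eq_one_of_S9' (mul_mem hg (inv_mem hh)) h3)

/-- the permutations of the nine letters whose lifts commute with `y` -/
def KK (y : Fi24) : Subgroup (Perm (Fin 9)) where
  carrier := {τ | ∀ v ∈ S9, R v τ → Commute y v}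
  one_mem' := by
    intro v hv h
    rw [eq_one_of_S9' hv h]
    exact Commute.one_right y
  mul_mem' := by
    intro τ τ' h h' v hv hR
    obtain ⟨a, ha, hRa⟩ := lift τ
    obtain ⟨b, hb, hRb⟩ := lift τ'
    rw [eq_of_R hv (mul_mem ha hb) hR (hRa.mul hRb)]
    exact (h a ha hRa).mul_right (h' b hb hRb)
  inv_mem' := by
    intro τ h v hv hR
    have h1 := hR.inv
    rw [inv_inv] at h1
    have h2 := h v⁻¹ (inv_mem hv) h1
    simpa using h2.inv_right

/-- the permutation of `g` -/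
def tt : Perm (Fin 9) := ⟨![0, 7, 6, 1, 4, 2, 3, 8, 5], ![0, 3, 5, 6, 4, 8, 2, 1, 7], by decide, by decide⟩

/-- the permutation of `x3^g` -/
def q3 : Perm (Fin 9) := tt * p3 * tt⁻¹

/-- words in `p3`, `q3` -/
def wd (l : List (Fin 4)) : Perm (Fin 9) := (l.map ![p3, p3⁻¹, q3, q3⁻¹]).prod

theorem wd_mem {y : Fi24} (h1 : p3 ∈ KK y) (h2 : q3 ∈ KK y) (l : List (Fin 4)) : wd l ∈ KK y := by
  apply list_prod_mem
  intro x hx
  obtain ⟨i, -, rfl⟩ := List.mem_map.1 hx
  fin_cases i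
  · exact h1
  · exact inv_mem h1
  · exact h2
  · exact inv_mem h2

theorem wd1 : swap 0 1 * swap 1 2 * swap 2 3 * swap 3 4 = wd [0, 2, 0, 3, 0, 3, 0, 2, 1] := by decide +kernel
theorem wd2 : swap 0 1 * swap 5 6 = wd [1, 2, 0, 2, 0, 3, 1, 2, 0, 2, 1, 2, 0] := by decide +kernel
theorem wd3 : swap 4 5 * swap 5 6 * swap 6 7 * swap 5 6 * swap 4 5 * swap 5 6 =
    wd [2, 1, 2, 1, 3, 1, 2, 0, 3, 1, 2, 0, 2, 1, 2, 0, 2] := by decide +kernel
theorem wd4 : swap 5 6 * swap 7 8 = wd [2, 1, 3, 0, 2, 0, 3, 1, 2, 0] := by decide +kernel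

/-- words taking `{5, 6}` to `{m, m + 1}` -/
def tw : Fin 8 → List (Fin 4) := ![[1, 3, 0, 2], [3, 0, 2], [3, 0, 3, 1, 3], [3, 1, 2, 1, 3], [2, 0, 3, 1, 3], [], [1, 3], [3]]

theorem tw_ok : ∀ m : Fin 8, (wd (tw m) 5 = m.castSucc ∧ wd (tw m) 6 = m.succ) ∨
    (wd (tw m) 5 = m.succ ∧ wd (tw m) 6 = m.castSucc) := by decide +kernel

theorem word_v1 : word v1 = s 0 * s 1 * s 2 * s 3 := by
  obtain ⟨h0, h1, h2, h3, h4, h5, h6⟩ := s_gen
  rw [h0, h1, h2, h3]
  show word [.j, .g, .f, .e] = _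
  simp only [word_cons, word_nil, mul_one, mul_assoc]

theorem word_v2 : word v2 = s 0 * s 5 := by
  obtain ⟨h0, h1, h2, h3, h4, h5, h6⟩ := s_gen
  rw [h0, h5]
  show word [.j, .h] = _
  simp only [word_cons, word_nil, mul_one]

theorem word_v3 : word v3 = s 4 * s 5 * s 6 * s 5 * s 4 * s 5 := by
  obtain ⟨h0, h1, h2, h3, h4, h5, h6⟩ := s_gen
  rw [h4, h5, h6]
  show word [.d, .h, .i, .h, .d, .h] = _
  simp only [word_cons, word_nil, mul_one, mul_assoc]

theorem word_v4 : word v4 = s 5 * s 7 := by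
  obtain ⟨h0, h1, h2, h3, h4, h5, h6⟩ := s_gen
  rw [h5]
  show word ([.h] ++ (LThreeFi24.SNineK.uw ++ Gen.c :: LThreeFi24.SNineK.uw.reverse)) = _
  rw [word_append, word_one]
  rfl

theorem T_56 : T 5 6 = 4 := by decide

/-- **an element commuting with `x3` and `x3^g` commutes with `S₉`** -/
theorem R_one {g y : Fi24} (hg : g ∈ S9) (hRg : R g tt) (h1 : Commute y x3) (h2 : Commute y (g * x3 * g⁻¹)) : R y 1 := by
  have k1 : p3 ∈ KK y := by
    intro v hv hR
    rw [eq_of_R hv x3_mem hR R_x3]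
    exact h1
  have k2 : q3 ∈ KK y := by
    intro v hv hR
    rw [eq_of_R hv (mul_mem (mul_mem hg x3_mem) (inv_mem hg)) hR ((hRg.mul R_x3).mul hRg.inv)]
    exact h2
  have hK : ∀ (l : List (Fin 4)) (v : Fi24), v ∈ S9 → R v (wd l) → Commute y v := fun l => wd_mem k1 k2 l
  have r1 : R (word v1) (swap 0 1 * swap 1 2 * swap 2 3 * swap 3 4) := by
    rw [word_v1]; exact ((R_s 0).mul (R_s 1)).mul (R_s 2) |>.mul (R_s 3)
  have r2 : R (word v2) (swap 0 1 * swap 5 6) := by rw [word_v2]; exact (R_s 0).mul (R_s 5)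
  have r3 : R (word v3) (swap 4 5 * swap 5 6 * swap 6 7 * swap 5 6 * swap 4 5 * swap 5 6) := by
    rw [word_v3]; exact (((((R_s 4).mul (R_s 5)).mul (R_s 6)).mul (R_s 5)).mul (R_s 4)).mul (R_s 5)
  have r4 : R (word v4) (swap 5 6 * swap 7 8) := by rw [word_v4]; exact (R_s 5).mul (R_s 7)
  -- the four words
  have c1 : Commute y (word v1) := by
    have h := r1
    rw [wd1] at h
    refine hK _ _ ?_ h
    rw [word_v1]
    exact mul_mem (mul_mem (mul_mem (s_mem 0) (s_mem 1)) (s_mem 2)) (s_mem 3)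
  have c2 : Commute y (word v2) := by
    have h := r2
    rw [wd2] at h
    refine hK _ _ ?_ h
    rw [word_v2]
    exact mul_mem (s_mem 0) (s_mem 5)
  have c3 : Commute y (word v3) := by
    have h := r3
    rw [wd3] at h
    refine hK _ _ ?_ h
    rw [word_v3]
    exact mul_mem (mul_mem (mul_mem (mul_mem (mul_mem (s_mem 4) (s_mem 5)) (s_mem 6)) (s_mem 5)) (s_mem 4)) (s_mem 5)
  have c4 : Commute y (word v4) := by
    have h := r4
    rw [wd4] at h
    refine hK _ _ ?_ h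
    rw [word_v4]
    exact mul_mem (s_mem 5) (s_mem 7)
  have hne : (5 : Fin 9) ≠ 6 := by decide
  -- the point of the transposition `(5 6)`
  have key : rho y 4 = 4 := by
    have f1 : rho (word v1) 4 = 4 := by
      have := r1 5 6 hne
      rwa [show T ((swap 0 1 * swap 1 2 * swap 2 3 * swap 3 4 : Perm (Fin 9)) 5)
        ((swap 0 1 * swap 1 2 * swap 2 3 * swap 3 4 : Perm (Fin 9)) 6) = 4 by decide +kernel, T_56] at this
    have f2 : rho (word v2) 4 = 4 := by
      have := r2 5 6 hne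
      rwa [show T ((swap 0 1 * swap 5 6 : Perm (Fin 9)) 5) ((swap 0 1 * swap 5 6 : Perm (Fin 9)) 6) = 4 by
        decide +kernel, T_56] at this
    have f3 : rho (word v3) 4 = 4 := by
      have := r3 5 6 hne
      rwa [show T ((swap 4 5 * swap 5 6 * swap 6 7 * swap 5 6 * swap 4 5 * swap 5 6 : Perm (Fin 9)) 5)
        ((swap 4 5 * swap 5 6 * swap 6 7 * swap 5 6 * swap 4 5 * swap 5 6 : Perm (Fin 9)) 6) = 4 by
        decide +kernel, T_56] at this
    have f4 : rho (word v4) 4 = 4 := by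
      have := r4 5 6 hne
      rwa [show T ((swap 5 6 * swap 7 8 : Perm (Fin 9)) 5) ((swap 5 6 * swap 7 8 : Perm (Fin 9)) 6) = 4 by
        decide +kernel, T_56] at this
    have g1 := fixed_of_comm c1.eq f1
    have g2 := fixed_of_comm c2.eq f2
    have g3 := fixed_of_comm c3.eq f3
    have g4 := fixed_of_comm c4.eq f4
    have hU : UG.testBit (rho y 4) = true := by
      have h3 := UG_T hne
      rw [T_56] at h3
      exact UG_rho h3 y
    have hm : rho y 4 ∈ m36 := by
      rw [← testBit_msk, ← Nat.eq_of_beq_eq_true sieve_v]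
      apply sv_spec (wok v1 false) bl hU
      rw [← rho_word]
      exact g1
    have n2 : rho y 4 ∉ m2 := fun h => mvB_spec mv2 _ h g2
    have n3 : rho y 4 ∉ m3 := fun h => mvB_spec mv3 _ h g3
    have n4 : rho y 4 ∉ m4 := fun h => mvB_spec mv4 _ h g4
    have n10 : rho y 4 ∉ m10 := by
      intro h
      have h3 := ten_fix h x3_mem
      have h4 : rho x3 (rho y 4) = rho y (rho x3 4) := by
        rw [← Perm.mul_apply, ← map_mul, ← h1.eq, map_mul, Perm.mul_apply]
      rw [h4] at h3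
      have h5 := (rho y).injective h3
      have h6 := R_x3 5 6 hne
      rw [T_56, h5] at h6
      exact absurd h6 (by decide +kernel)
    have hall : ∀ q ∈ m36, q = 4 ∨ q ∈ m10 ∨ q ∈ m2 ∨ q ∈ m3 ∨ q ∈ m4 := by decide
    rcases hall _ hm with h | h | h | h | h
    · exact h
    · exact absurd h n10
    · exact absurd h n2
    · exact absurd h n3
    · exact absurd h n4
  apply R_one_of
  intro m
  obtain ⟨u, hu, hRu⟩ := lift (wd (tw m))
  have hc : Commute y u := hK (tw m) u hu hRu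
  have h3 : rho u 4 = T m.castSucc m.succ := by
    have h4 := hRu 5 6 hne
    rw [T_56] at h4
    rcases tw_ok m with ⟨e1, e2⟩ | ⟨e1, e2⟩
    · rw [h4, e1, e2]
    · rw [h4, e1, e2, T_symm]
  rw [← h3, ← Perm.mul_apply, ← map_mul, hc.eq, map_mul, Perm.mul_apply, key]

/-! ### 3-subgroups of `C(S₉)` -/

instance fact3 : Fact (Nat.Prime 3) := ⟨Nat.prime_three⟩

theorem fixB_spec' {w : List Gen} {l : List ℕ} (h : fixB (nw w false) l = true) : ∀ p ∈ l, rho (word w) p = p :=
  fun p hp => rho_of_chkPt (fixB_spec h p hp)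

theorem l_fix : ∀ p ∈ [0, 1, 193], rho (gen .l) p = p := by
  have h := fixB_spec' fl
  rwa [word_one] at h

theorem l_mv : ∀ p ∈ [307840, 307841, 307872, 307873, 307968, 308000], rho (gen .l) p ≠ p := by
  have h := mvB_spec ml
  rwa [word_one] at h

theorem b_fix : ∀ p ∈ [193, 307872], rho (gen .b) p = p := by
  have h := fixB_spec' fb
  rwa [word_one] at h

theorem b_mv : ∀ p ∈ [1, 192, 307841, 307873, 307968, 308000], rho (gen .b) p ≠ p := by
  have h := mvB_spec mb
  rwa [word_one] at h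

/-- images of the points commuting with `l` -/
theorem three {n : Fi24} (h : R n 1) (h0 : rho n 0 = 0) {p : ℕ} (hp : p ∈ m10) (hl : rho (gen .l) p = p) (hne : p ≠ 0) :
    rho n p ∈ [1, 192, 193] := by
  have h1 := ten_act h hp
  have h2 : rho (gen .l) (rho n p) = rho n p := fixed_of_comm (comm_of_fix (x := .l) h0) hl
  have h3 : rho n p ≠ 0 := fun e => hne ((rho n).injective (e.trans h0.symm))
  have h4 : rho n p ∉ [307840, 307841, 307872, 307873, 307968, 308000] := fun e => l_mv _ e h2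
  unfold m10 at h1
  simp only [List.mem_cons, List.not_mem_nil, or_false] at h1 h4 ⊢
  omega

/-- a 3-element commuting with `S₉`, `l` and `a` is trivial -/
theorem triv {n : Fi24} {k : ℕ} (hk : n ^ 3 ^ k = 1) (h : R n 1) (h0 : rho n 0 = 0) (h1 : rho n 1 = 1) : n = 1 := by
  have l193 : rho (gen .l) 193 = 193 := l_fix 193 (by decide)
  have l192 : ∀ p ∈ [192, 193], rho n p ∈ [192, 193] → True := fun _ _ _ => trivial
  have hb : rho n 193 = 193 := by
    have a1 := three h h0 (p := 193) (by decide) l193 (by norm_num)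
    have a2 : rho n 193 ≠ 1 := fun e => absurd ((rho n).injective (e.trans h1.symm)) (by norm_num)
    have a3 : rho n 193 = 192 ∨ rho n 193 = 193 := by
      simp only [List.mem_cons, List.not_mem_nil, or_false] at a1
      omega
    rcases a3 with a3 | a3
    · apply fix_two hk
      rw [a3]
      have l2 : rho (gen .l) 192 = 192 := by
        have h5 : rho (gen .l) (rho n 193) = rho n 193 := fixed_of_comm (comm_of_fix (x := .l) h0) l193
        rwa [a3] at h5
      have b1 := three h h0 (p := 192) (by decide) l2 (by norm_num)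
      have b2 : rho n 192 ≠ 1 := fun e => absurd ((rho n).injective (e.trans h1.symm)) (by norm_num)
      have b3 : rho n 192 ≠ 192 := fun e => absurd ((rho n).injective (e.trans a3.symm)) (by norm_num)
      simp only [List.mem_cons, List.not_mem_nil, or_false] at b1
      omega
    · exact a3
  have hcb : n * gen .b = gen .b * n := comm_of_fix (x := .b) hb
  have hb2 : ∀ p ∈ m10, rho (gen .b) p = p → p ≠ 0 → p ≠ 193 → rho n p = 307840 ∨ rho n p = 307872 := by
    intro p hp hbp n0 n1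
    have a1 := ten_act h hp
    have a2 : rho (gen .b) (rho n p) = rho n p := fixed_of_comm hcb hbp
    have a3 : rho n p ∉ [1, 192, 307841, 307873, 307968, 308000] := fun e => b_mv _ e a2
    have a4 : rho n p ≠ 0 := fun e => n0 ((rho n).injective (e.trans h0.symm))
    have a5 : rho n p ≠ 193 := fun e => n1 ((rho n).injective (e.trans hb.symm))
    unfold m10 at a1
    simp only [List.mem_cons, List.not_mem_nil, or_false] at a1 a3
    omega
  have hkk : rho n 307872 = 307872 := by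
    have bk : rho (gen .b) 307872 = 307872 := b_fix _ (by decide)
    rcases hb2 307872 (by decide) bk (by norm_num) (by norm_num) with a3 | a3
    · apply fix_two hk
      rw [a3]
      have b4 : rho (gen .b) 307840 = 307840 := by
        have h5 : rho (gen .b) (rho n 307872) = rho n 307872 := fixed_of_comm hcb bk
        rwa [a3] at h5
      rcases hb2 307840 (by decide) b4 (by norm_num) (by norm_num) with b5 | b5
      · exact absurd ((rho n).injective (b5.trans a3.symm)) (by norm_num)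
      · exact b5
    · exact a3
  exact eq_one_of_lkab h (comm_of_fix (x := .l) h0) (comm_of_fix (x := .k) hkk) (comm_of_fix (x := .a) h1) hcb

/-- the action on the ten points -/
theorem exists_fix {B : Subgroup Fi24} (hB : IsPGroup 3 B) (hR : ∀ y ∈ B, R y 1) : ∃ p ∈ m10, ∀ y ∈ B, rho y p = p := by
  classical
  let act : MulAction B {p : ℕ // p ∈ m10} :=
    { smul := fun y p => ⟨rho y p, ten_act (hR y y.2) p.2⟩
      one_smul := fun p => Subtype.ext (by
        show rho ((1 : B) : Fi24) p = p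
        rw [Subgroup.coe_one, map_one]; rfl)
      mul_smul := fun x y p => Subtype.ext (by
        show rho ((x * y : B) : Fi24) p = rho x (rho y p)
        rw [Subgroup.coe_mul, map_mul]; rfl) }
  have hfin : Finite {p : ℕ // p ∈ m10} := inferInstance
  have h1 := hB.card_modEq_card_fixedPoints {p : ℕ // p ∈ m10}
  have h2 : Nat.card {p : ℕ // p ∈ m10} = 10 := by
    rw [Nat.card_eq_fintype_card, Fintype.card_of_subtype m10.toFinset (fun x => by rw [List.mem_toFinset])]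
    decide
  rw [h2] at h1
  have h3 : Nat.card (MulAction.fixedPoints B {p : ℕ // p ∈ m10}) ≠ 0 := by
    intro h4
    rw [h4] at h1
    exact absurd h1 (by decide)
  obtain ⟨⟨⟨p, hp⟩, hf⟩⟩ := (Nat.card_ne_zero.1 h3).1
  refine ⟨p, hp, fun y hy => ?_⟩
  exact congrArg Subtype.val (hf ⟨y, hy⟩)

theorem card_le_three {B : Subgroup Fi24} (hB : IsPGroup 3 B) (hR : ∀ y ∈ B, R y 1) : Nat.card B ≤ 3 := by
  obtain ⟨p, hp, hfix⟩ := exists_fix hB hR
  obtain ⟨c, hc, h0⟩ := exists_word hp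
  have hRc : R c 1 := R_of_comm hc
  have hRy : ∀ y ∈ B, R (c * y * c⁻¹) 1 := by
    intro y hy
    have := (hRc.mul (hR y hy)).mul hRc.inv
    simpa using this
  have hy0 : ∀ y ∈ B, rho (c * y * c⁻¹) 0 = 0 := by
    intro y hy
    have h1 : rho c⁻¹ 0 = p := by rw [← h0, ← Perm.mul_apply, ← map_mul, inv_mul_cancel, map_one]; rfl
    rw [map_mul, map_mul, Perm.mul_apply, Perm.mul_apply, h1, hfix y hy, h0]
  have hl1 : rho (gen .l) 1 = 1 := l_fix 1 (by decide)
  let f : B → {q : ℕ // q ∈ [1, 192, 193]} := fun y =>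
    ⟨rho (c * y * c⁻¹) 1, three (hRy y y.2) (hy0 y y.2) (by decide) hl1 (by norm_num)⟩
  have hf : Function.Injective f := by
    intro y z hyz
    have h1 : rho (c * y * c⁻¹) 1 = rho (c * z * c⁻¹) 1 := congrArg Subtype.val hyz
    have hm : (z : Fi24)⁻¹ * (y : Fi24) ∈ B := mul_mem (inv_mem z.2) y.2
    obtain ⟨k, hk⟩ := hB ⟨_, hm⟩
    have hk' : ((z : Fi24)⁻¹ * (y : Fi24)) ^ 3 ^ k = 1 := congrArg Subtype.val hk
    have h2 : c * ((z : Fi24)⁻¹ * (y : Fi24)) * c⁻¹ = (c * z * c⁻¹)⁻¹ * (c * y * c⁻¹) := by group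
    have h3 : c * ((z : Fi24)⁻¹ * (y : Fi24)) * c⁻¹ = 1 := by
      refine triv (k := k) ?_ (hRy _ hm) (hy0 _ hm) ?_
      · rw [conj_pow, hk', mul_one, mul_inv_cancel]
      · rw [h2, map_mul, Perm.mul_apply, h1, ← Perm.mul_apply, ← map_mul, inv_mul_cancel, map_one rho,
          Perm.one_apply]
    have h4 : (z : Fi24)⁻¹ * (y : Fi24) = 1 := by
      calc (z : Fi24)⁻¹ * (y : Fi24) = c⁻¹ * (c * ((z : Fi24)⁻¹ * (y : Fi24)) * c⁻¹) * c := by group
        _ = 1 := by rw [h3]; group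
    exact Subtype.ext (inv_mul_eq_one.1 h4).symm
  have h5 := Nat.card_le_card_of_injective f hf
  refine h5.trans ?_
  rw [Nat.card_eq_fintype_card, Fintype.card_of_subtype [1, 192, 193].toFinset (fun x => by rw [List.mem_toFinset])]
  decide

/-- a nontrivial 3-subgroup of `C(S₉)` is generated by any of its nontrivial elements -/
theorem eq_zpowers {B : Subgroup Fi24} (hB : IsPGroup 3 B) (hR : ∀ y ∈ B, R y 1) {y : Fi24} (hy : y ∈ B) (h1 : y ≠ 1) :
    Subgroup.zpowers y = B ∧ y ^ 3 = 1 := by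
  have hfin := Cfsg.Agent.R08.FiTwentyFour.finite_Fi24
  have hc : Nat.card B = 3 := by
    obtain ⟨n, hn⟩ := hB.exists_card_eq
    have h3 := card_le_three hB hR
    have h2 : 1 < Nat.card B := by
      rw [Finite.one_lt_card_iff_nontrivial]
      exact ⟨⟨y, hy⟩, 1, fun h => h1 (congrArg Subtype.val h)⟩
    rw [hn] at h2 h3 ⊢
    rcases n with _ | _ | n
    · norm_num at h2
    · norm_num
    · exfalso
      have : 3 ^ 2 ≤ 3 ^ (n + 2) := Nat.pow_le_pow_right (by norm_num) (by omega)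
      omega
  have h2 : y ^ 3 = 1 := by
    have h3 : orderOf y ∣ 3 := by
      rw [← hc]
      exact Subgroup.orderOf_dvd_natCard B hy
    exact orderOf_dvd_iff_pow_eq_one.1 h3
  refine ⟨Subgroup.eq_of_le_of_card_ge (by simpa using hy) ?_, h2⟩
  rw [hc, Nat.card_zpowers, orderOf_eq_prime h2 h1]

/-! ### The Sylow subgroup -/

theorem comm_y0 {g : Fi24} (hg : g ∈ S9) : Commute g y0 := word_comm (by decide) hg

theorem R_y0 : R y0 1 := R_of_comm fun _ hg => comm_y0 hg

theorem exists_sylow : ∃ P : Sylow 3 Fi24, ∀ q ∈ (P : Subgroup Fi24), Commute q x3 := by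
  have hfin := Cfsg.Agent.R08.FiTwentyFour.finite_Fi24
  obtain ⟨P, hP⟩ := Cfsg.Agent.H841.Tri.exists_sylow3
  have hx : orderOf x3 = 3 := orderOf_eq_prime Cfsg.Agent.H841.Tri.x3_cube Cfsg.Agent.H841.Tri.x3_ne
  have hnt : Nontrivial ↥(P : Subgroup Fi24) := by
    rw [← Finite.one_lt_card_iff_nontrivial]
    have h3 : 3 ∣ Nat.card Fi24 := by rw [← hx]; exact orderOf_dvd_natCard x3
    exact lt_of_lt_of_le (by norm_num) (Nat.le_of_dvd Nat.card_pos (P.dvd_card_of_dvd_card h3))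
  have hc : Nontrivial (Subgroup.center ↥(P : Subgroup Fi24)) := P.isPGroup'.center_nontrivial
  obtain ⟨z, hz⟩ := exists_ne (1 : Subgroup.center ↥(P : Subgroup Fi24))
  set z' : Fi24 := ((z : ↥(P : Subgroup Fi24)) : Fi24) with hz'
  have hz1 : z' ≠ 1 := fun h => hz (Subtype.ext (Subtype.ext h))
  have hcom : ∀ q ∈ (P : Subgroup Fi24), Commute z' q := by
    intro q hq
    have := Subgroup.mem_center_iff.1 z.2 ⟨q, hq⟩
    exact (congrArg Subtype.val this).symm
  have hmem := hP z' hcom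
  have hcard : Nat.card (Subgroup.zpowers x3) = 3 := by rw [Nat.card_zpowers, hx]
  have hz3 : z' ^ 3 = 1 := by
    have h3 : orderOf z' ∣ 3 := by
      rw [← hcard]
      exact Subgroup.orderOf_dvd_natCard _ hmem
    exact orderOf_dvd_iff_pow_eq_one.1 h3
  have heq : Subgroup.zpowers z' = Subgroup.zpowers x3 := by
    apply Subgroup.eq_of_le_of_card_ge (by simpa using hmem)
    rw [hcard, Nat.card_zpowers, orderOf_eq_prime hz3 hz1]
  have hx3 : x3 ∈ Subgroup.zpowers z' := by rw [heq]; exact Subgroup.mem_zpowers x3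
  obtain ⟨n, hn⟩ := hx3
  refine ⟨P, fun q hq => ?_⟩
  have hn' : z' ^ n = x3 := hn
  rw [← hn']
  exact (hcom q hq).symm.zpow_right n

theorem meetIn24 : MeetIn 3 Fi24 := by
  have hfin := Cfsg.Agent.R08.FiTwentyFour.finite_Fi24
  obtain ⟨P, hP⟩ := exists_sylow
  refine MeetIn.of_one (P : Subgroup Fi24) P.isPGroup' P.not_dvd_index ?_
  by_contra hno
  push Not at hno
  obtain ⟨g, hg, hRg⟩ := lift tt
  -- the two subgroups of `C(S₉)`
  let B0 : Subgroup Fi24 :=
    { carrier := {y | y ∈ (P : Subgroup Fi24) ∧ R y 1}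
      one_mem' := ⟨one_mem _, R.one⟩
      mul_mem' := fun {a b} ha hb => ⟨mul_mem ha.1 hb.1, by simpa using ha.2.mul hb.2⟩
      inv_mem' := fun {a} ha => ⟨inv_mem ha.1, by simpa using ha.2.inv⟩ }
  let B1 : Subgroup Fi24 :=
    { carrier := {y | g⁻¹ * y * g ∈ (P : Subgroup Fi24) ∧ R y 1}
      one_mem' := ⟨by simp, R.one⟩
      mul_mem' := fun {a b} ha hb => ⟨by
        have := mul_mem ha.1 hb.1
        have e : g⁻¹ * (a * b) * g = g⁻¹ * a * g * (g⁻¹ * b * g) := by group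
        rw [e]; exact this, by simpa using ha.2.mul hb.2⟩
      inv_mem' := fun {a} ha => ⟨by
        have := inv_mem ha.1
        have e : g⁻¹ * a⁻¹ * g = (g⁻¹ * a * g)⁻¹ := by group
        rw [e]; exact this, by simpa using ha.2.inv⟩ }
  have hp0 : IsPGroup 3 B0 := P.isPGroup'.to_le (fun y hy => hy.1)
  have hp1 : IsPGroup 3 B1 := by
    rintro ⟨y, hy⟩
    obtain ⟨k, hk⟩ := P.isPGroup' ⟨_, hy.1⟩
    have hk' : (g⁻¹ * y * g) ^ 3 ^ k = 1 := congrArg Subtype.val hk
    refine ⟨k, Subtype.ext ?_⟩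
    show y ^ 3 ^ k = 1
    have e : y = g * (g⁻¹ * y * g) * g⁻¹ := by group
    rw [e, conj_pow, hk', mul_one, mul_inv_cancel]
  -- the key step
  have key : ∀ i : ℕ, ∃ y, y ∈ B0 ∧ y ≠ 1 ∧ y0 ^ i * y * (y0 ^ i)⁻¹ ∈ B1 := by
    intro i
    obtain ⟨y, hy, hxy, hy1⟩ := hno (g⁻¹ * y0 ^ i)
    have hRi : R (y0 ^ i) 1 := by
      have := R_y0.pow i
      simpa using this
    have hci : ∀ {h : Fi24}, h ∈ S9 → Commute h (y0 ^ i) := fun hh => (comm_y0 hh).pow_right i
    set w := y0 ^ i * y * (y0 ^ i)⁻¹ with hw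
    have e1 : g⁻¹ * y0 ^ i * y * (g⁻¹ * y0 ^ i)⁻¹ = g⁻¹ * w * g := by rw [hw]; group
    rw [e1] at hxy
    have c1 : Commute w x3 := by
      have h1 : Commute y x3 := hP y hy
      have h2 := hci x3_mem
      show w * x3 = x3 * w
      rw [hw]
      calc y0 ^ i * y * (y0 ^ i)⁻¹ * x3 = y0 ^ i * y * (x3 * (y0 ^ i)⁻¹) := by
            rw [mul_assoc (y0 ^ i * y), (h2.inv_right).eq]
        _ = y0 ^ i * (x3 * y) * (y0 ^ i)⁻¹ := by rw [← h1.eq]; group
        _ = x3 * (y0 ^ i * y * (y0 ^ i)⁻¹) := by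
            have : y0 ^ i * x3 = x3 * y0 ^ i := h2.eq.symm
            calc y0 ^ i * (x3 * y) * (y0 ^ i)⁻¹ = (y0 ^ i * x3) * y * (y0 ^ i)⁻¹ := by group
              _ = x3 * (y0 ^ i * y * (y0 ^ i)⁻¹) := by rw [this]; group
    have c2 : Commute w (g * x3 * g⁻¹) := by
      have h1 := (hP _ hxy).eq
      show w * (g * x3 * g⁻¹) = g * x3 * g⁻¹ * w
      calc w * (g * x3 * g⁻¹) = g * (g⁻¹ * w * g * x3) * g⁻¹ := by group
        _ = g * (x3 * (g⁻¹ * w * g)) * g⁻¹ := by rw [h1]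
        _ = g * x3 * g⁻¹ * w := by group
    have hRw : R w 1 := R_one hg hRg c1 c2
    refine ⟨y, ⟨hy, ?_⟩, hy1, ⟨hxy, hRw⟩⟩
    have h3 := (hRi.inv.mul hRw).mul hRi
    have e2 : (y0 ^ i)⁻¹ * w * y0 ^ i = y := by rw [hw]; group
    rw [e2] at h3
    simpa using h3
  obtain ⟨y, hy, hy1, hyB⟩ := key 0
  rw [pow_zero, inv_one, mul_one, one_mul] at hyB
  obtain ⟨z, hz, hz1, hzB⟩ := key 1
  rw [pow_one] at hzB
  have hR0 : ∀ y ∈ B0, R y 1 := fun y hy => hy.2
  have hR1 : ∀ y ∈ B1, R y 1 := fun y hy => hy.2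
  have e0 := eq_zpowers hp0 hR0 hy hy1
  have e1 := eq_zpowers hp1 hR1 hyB hy1
  have e2 := eq_zpowers hp0 hR0 hz hz1
  have h4 : y0 * z * y0⁻¹ ∈ Subgroup.zpowers z := by
    rw [e2.1, ← e0.1, e1.1]
    exact hzB
  -- `y0` normalises `⟨z⟩`, so it centralises `z`
  have h5 : y0 * z * y0⁻¹ = z ∨ y0 * z * y0⁻¹ = z⁻¹ := by
    obtain ⟨n, hn⟩ := h4
    have hn' : z ^ n = y0 * z * y0⁻¹ := hn
    have h6 : ∀ m : ℤ, z ^ m = z ^ (m % 3) := by
      intro m
      conv_lhs => rw [← Int.emod_add_mul_ediv m 3]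
      rw [zpow_add, zpow_mul, show z ^ (3 : ℤ) = z ^ 3 from zpow_natCast z 3, e2.2, one_zpow, mul_one]
    have h7 := Int.emod_nonneg n (show (3 : ℤ) ≠ 0 by norm_num)
    have h8 := Int.emod_lt_of_pos n (show (0 : ℤ) < 3 by norm_num)
    have h9 : n % 3 = 0 ∨ n % 3 = 1 ∨ n % 3 = 2 := by omega
    rw [h6 n] at hn'
    rcases h9 with h9 | h9 | h9
    · exfalso
      rw [h9, zpow_zero] at hn'
      apply hz1
      calc z = y0⁻¹ * (y0 * z * y0⁻¹) * y0 := by group
        _ = 1 := by rw [← hn']; group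
    · left
      rw [h9, zpow_one] at hn'
      exact hn'.symm
    · right
      rw [h9] at hn'
      rw [← hn', eq_comm, inv_eq_iff_mul_eq_one, ← zpow_one_add]
      have := h6 3
      norm_num at this ⊢
      exact this
  have h10 : y0 * z = z * y0 := by
    rcases h5 with h5 | h5
    · calc y0 * z = (y0 * z * y0⁻¹) * y0 := by group
        _ = z * y0 := by rw [h5]
    · -- `y0 ^ 2` centralises `z`, `y0 = (y0 ^ 2) ^ 3`
      have h6 : y0 * z = z⁻¹ * y0 := by
        calc y0 * z = (y0 * z * y0⁻¹) * y0 := by group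
          _ = z⁻¹ * y0 := by rw [h5]
      have h7 : y0 * z⁻¹ = z * y0 := by
        calc y0 * z⁻¹ = (y0 * z * y0⁻¹)⁻¹ * y0 := by group
          _ = z * y0 := by rw [h5, inv_inv]
      have h8 : Commute (y0 * y0) z := by
        show y0 * y0 * z = z * (y0 * y0)
        rw [mul_assoc, h6, ← mul_assoc, h7, mul_assoc]
      have h9 : y0 = (y0 * y0) ^ 3 := by
        rw [← pow_two, ← pow_mul, show 2 * 3 = 5 + 1 by norm_num, pow_succ, Cfsg.Agent.LThreeFi24.FiveConj.e5, one_mul]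
      rw [h9]
      exact (h8.pow_left 3).eq
  exact hz1 (eq_one_of (hR0 z hz) h10.symm e2.2)

/-- `MeetIn` for a normal subgroup -/
theorem meetIn_normal {p : ℕ} [Fact p.Prime] {G : Type*} [Group G] [Finite G] (N : Subgroup G) [N.Normal]
    (h : MeetIn p G) : MeetIn p N := by
  obtain ⟨P⟩ : Nonempty (Sylow p N) := inferInstance
  obtain ⟨x, hx⟩ := h ((P : Subgroup N).map N.subtype) (P.isPGroup'.map _)
  -- the conjugate of `P` by `x⁻¹`
  obtain ⟨g, hg⟩ := MulAction.exists_smul_eq N ((MulAut.conjNormal x⁻¹ : MulAut N) • P) P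
  refine MeetIn.of_one (P : Subgroup N) P.isPGroup' P.not_dvd_index ⟨g, fun y hy hxy => ?_⟩
  have h1 : g * y * g⁻¹ ∈ ((g • ((MulAut.conjNormal x⁻¹ : MulAut N) • P) : Sylow p N) : Subgroup N) := by
    rw [hg]; exact hxy
  rw [Sylow.smul_def] at h1
  obtain ⟨s, hs, hse⟩ := (Subgroup.mem_smul_pointwise_iff_exists _ _ _).1 h1
  have h2 : g * s * g⁻¹ = g * y * g⁻¹ := hse
  have h3 : s = y := mul_left_cancel (mul_right_cancel h2)
  rw [h3] at hs
  obtain ⟨q, hq, hqe⟩ := (Subgroup.mem_smul_pointwise_iff_exists _ _ _).1 hs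
  have h4 : x⁻¹ * (q : G) * x⁻¹⁻¹ = y := by
    have h5 : (MulAut.conjNormal x⁻¹ : MulAut N) q = y := hqe
    rw [← h5, MulAut.conjNormal_apply]
  have h6 : (y : G) = 1 := by
    apply hx
    · exact ⟨y, hy, rfl⟩
    · refine ⟨q, hq, ?_⟩
      show (q : G) = x * y * x⁻¹
      rw [← h4]
      group
  exact Subtype.ext h6

theorem meetIn : MeetIn 3 (commutator Fi24) := by
  have hfin := Cfsg.Agent.R08.FiTwentyFour.finite_Fi24
  exact meetIn_normal (commutator Fi24) meetIn24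

theorem meet3_Fi24 {G : Type*} [Group G] [Finite G] [IsSimpleGroup G] (h : Cfsg.Spor.IsoFi24' G) :
    Cfsg.Agent.H903.SylMeet.Meet 3 G := by
  have D := BpSpor.Row.dat_fi24 h
  obtain ⟨e⟩ := h
  exact MeetIn.meet (D.inn 3 Nat.prime_three (by norm_num)) (not_comm_of_card (by rw [D.card]; norm_num))
    (meetIn.congr e.symm)

end Cfsg.Agent.H232.MeetFi24
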