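import Cfsg.Agent.LThreeFi24.SNineK

/-!
# `Meet 3` for `Fi24'`: kernel checks (helper232)

The transpositions commuting with `j g f e`, and which of them commute with `j h`, with `(4 7)(5 6)` and with `h w`.
-/

set_option autoImplicit false
set_option maxRecDepth 100000
set_option Elab.async false

namespace Cfsg.Agent.H232.MeetFi24K

open Cfsg Cfsg.Agent.Lib.PermNet Cfsg.Agent.Lib.PermNetPt Cfsg.Agent.Fischer.Fi24RepDef Cfsg.Agent.Fischer.Fi24Rep
open Cfsg.Agent.Fischer.Fi24RepOrb (UG)
open Cfsg.Agent.KFacts.FiTF.FixMask (sv bl msk)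
open Cfsg.Agent.LThreeFi24.SNineK
open Cfsg.Spor (Fi24)
open Cfsg.Spor.Fi24 (Gen)

def v1 : List Gen := [.j, .g, .f, .e]
def v2 : List Gen := [.j, .h]
def v3 : List Gen := [.d, .h, .i, .h, .d, .h]
def v4 : List Gen := [.h] ++ (uw ++ Gen.c :: uw.reverse)

/-- the ten transpositions commuting with `S₉` -/
def m10 : List ℕ := [0, 1, 192, 193, 307840, 307841, 307872, 307873, 307968, 308000]

def m2 : List ℕ := [160, 176, 802, 803, 818, 819, 901, 903, 917, 919, 308361, 308377, 308393, 308409]
def m3 : List ℕ := [2, 79, 194, 195, 307970, 308002]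
def m4 : List ℕ := [42, 43, 77, 308484, 308516]

/-- the transpositions commuting with `v1` -/
def m36 : List ℕ := [4, 0, 1, 192, 193, 307840, 307841, 307872, 307873, 307968, 308000,
  160, 176, 802, 803, 818, 819, 901, 903, 917, 919, 308361, 308377, 308393, 308409,
  2, 79, 194, 195, 307970, 308002, 42, 43, 77, 308484, 308516]

theorem sieve_v : Nat.beq (sv (nw v1 false) bl UG) (msk m36) = true := by decide +kernel

/-- the points of the list are moved by the word -/
noncomputable def mvB (w : List Net) : List ℕ → Bool
  | [] => true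
  | p :: l => and (Bool.rec true false (chkPt w p p)) (mvB w l)

theorem mv2 : mvB (nw v2 false) m2 = true := by decide +kernel
theorem mv3 : mvB (nw v3 false) m3 = true := by decide +kernel
theorem mv4 : mvB (nw v4 false) m4 = true := by decide +kernel


theorem ml : mvB (nw [.l] false) [307840, 307841, 307872, 307873, 307968, 308000] = true := by decide +kernel
theorem mb : mvB (nw [.b] false) [1, 192, 307841, 307873, 307968, 308000] = true := by decide +kernel
theorem fl : fixB (nw [.l] false) [0, 1, 193] = true := by decide +kernel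
theorem fb : fixB (nw [.b] false) [193, 307872] = true := by decide +kernel

/-- words taking the points to `0` -/
def wt : List (ℕ × List Gen) := [(0, []), (1, [.k, .a, .l, .k]), (192, [.k, .a, .b, .l, .k]),
  (193, [.k, .a, .b, .l, .k, .a]), (307840, [.k]), (307841, [.k, .a]), (307872, [.k, .l]), (307873, [.k, .a, .l]),
  (307968, [.k, .a, .b]), (308000, [.k, .a, .b, .l])]

noncomputable def wtB : List (ℕ × List Gen) → Bool
  | [] => true
  | c :: l => and (chkPt (nw c.2 false) c.1 0) (wtB l)

theorem wt_ok : wtB wt = true := by decide +kernel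

end Cfsg.Agent.H232.MeetFi24K
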