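import Mathlib

/-!
# Invariants of `P ∩ P^x` (helper232)

If `y` and `x y x⁻¹` preserve a finite set `V` then `v ↦ ∑ φ (r (x v) (V i))` is invariant under `y`, for every
invariant function `r` of two variables.
-/

set_option autoImplicit false

namespace Cfsg.Agent.H232.MeetInv

variable {G X C : Type*} [Group G] [MulAction G X]

theorem sum_inv {ι A : Type*} [Fintype ι] [AddCommMonoid A] {V : ι → X} (hV : Function.Injective V) {r : X → X → C}
    (hr : ∀ (g : G) (a b : X), r (g • a) (g • b) = r a b) (φ : C → A) {x y : G}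
    (h : ∀ i, ∃ j, (x * y * x⁻¹) • V i = V j) (v : X) :
    ∑ i, φ (r (x • y • v) (V i)) = ∑ i, φ (r (x • v) (V i)) := by
  choose σ hσ using h
  have hinj : Function.Injective σ := by
    intro i j hij
    apply hV
    apply MulAction.injective (x * y * x⁻¹)
    show (x * y * x⁻¹) • V i = (x * y * x⁻¹) • V j
    rw [hσ, hσ, hij]
  have hbij : Function.Bijective σ := Finite.injective_iff_bijective.1 hinj
  rw [← hbij.sum_comp]
  apply Finset.sum_congr rfl
  intro i _
  rw [← hσ, ← hr (x * y * x⁻¹) (x • v) (V i)]
  congr 2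
  rw [smul_smul, smul_smul]
  group

end Cfsg.Agent.H232.MeetInv
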