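import Cfsg.Agent.H232.MeetOwn
import Cfsg.Agent.H112.Rad3.McL
import Cfsg.Agent.BpSpor.CoTwoRow
import Cfsg.Agent.H517.Conway

/-!
# `Meet 3` for `McL` and `Co2` (helper232)

`PSU₄(3)` has index 275 in `McL`, `McL` has index `2 ^ 11 * 23` in `Co2`.
-/

set_option autoImplicit false

namespace Cfsg.Agent.H232.MeetMcL

open Subgroup Cfsg Cfsg.Agent.H903.SylMeet Cfsg.Agent.H68.MeetB Cfsg.Agent.H232.MeetOwn

instance : Fact (Nat.Prime 3) := ⟨Nat.prime_three⟩

theorem meetIn_PSU4 {F : Type} [Field F] [Fintype F] (hF : Fintype.card F = 9) : MeetIn 3 (PSU 4 F 3) := by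
  have := S0283.result (F := F) (q := 3) (by rw [hF]; norm_num) 4 (by norm_num) (by norm_num)
  have hfin : Finite (PSU 4 F 3) := Nat.finite_of_card_ne_zero (by rw [CTwoTab.card_psu_four_three hF]; norm_num)
  refine meetIn_of_meet (conj_injective (not_comm_of_card ?_)) (meet_PSU4 hF)
  rw [CTwoTab.card_psu_four_three hF]
  norm_num

theorem not_dvd_index {H T : Type*} [Group H] [Group T] {f : H →* T} (hf : Function.Injective f) {a b : ℕ}
    (ha : Nat.card H = a) (hb : Nat.card T = a * b) (ha0 : 0 < a) (h3 : ¬ 3 ∣ b) : ¬ 3 ∣ f.range.index := by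
  have h1 := f.range.index_mul_card
  rw [← Nat.card_congr (MonoidHom.ofInjective hf).toEquiv, ha, hb, mul_comm] at h1
  rwa [Nat.eq_of_mul_eq_mul_left ha0 h1]

theorem meetIn_mcl : MeetIn 3 Spor.McL := by
  have hcard : Nat.card Spor.McL = 898128000 := Cfsg.Agent.Schreier.McLaughlin.card_mcl
  have : Finite Spor.McL := Nat.finite_of_card_ne_zero (by rw [hcard]; norm_num)
  obtain ⟨F, _, _, hF, f, hf⟩ := H468.exists_psu_mcl
  exact MeetIn.of_hom f hf (not_dvd_index hf (b := 275) (CTwoTab.card_psu_four_three hF) (by rw [hcard]) (by norm_num)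
    (by norm_num)) (meetIn_PSU4 hF)

theorem meetIn_co2 : MeetIn 3 Spor.Co2 := by
  have hcard : Nat.card Spor.Co2 = 42305421312000 := NotCT.Orders.co2 ⟨MulEquiv.refl _⟩
  have : Finite Spor.Co2 := Nat.finite_of_card_ne_zero (by rw [hcard]; norm_num)
  exact MeetIn.of_hom (Subgroup.inclusion H517.Conway.mcl_le_co2) (Subgroup.inclusion_injective _)
    (not_dvd_index (Subgroup.inclusion_injective _) (b := 47104) Cfsg.Agent.Schreier.McLaughlin.card_mcl
      (by rw [hcard]) (by norm_num) (by norm_num)) meetIn_mcl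

theorem meet3_McL {G : Type*} [Group G] [Finite G] [IsSimpleGroup G] (h : Cfsg.Spor.IsoMcL G) :
    Cfsg.Agent.H903.SylMeet.Meet 3 G := by
  have hi := H112.Rad3.oddInn_mcl h 3 Nat.prime_three (by norm_num)
  have hcard := NotCT.Orders.mcl h
  obtain ⟨e⟩ := h
  exact MeetIn.meet hi (not_comm_of_card (by rw [hcard]; norm_num)) (meetIn_mcl.congr e.symm)

theorem meet3_Co2 {G : Type*} [Group G] [Finite G] [IsSimpleGroup G] (h : Cfsg.Spor.IsoCo2 G) :
    Cfsg.Agent.H903.SylMeet.Meet 3 G := by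
  have hcard := NotCT.Orders.co2 h
  obtain ⟨e⟩ := h
  exact MeetIn.meet ((BpSpor.Co2.autInner 3).congr e.symm) (not_comm_of_card (by rw [hcard]; norm_num))
    (meetIn_co2.congr e.symm)

end Cfsg.Agent.H232.MeetMcL
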