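import Cfsg.Agent.H868.MeetOddPSU
import Cfsg.Agent.H868.MeetOddOmega
import Cfsg.Agent.H126.SepSpSU
import Cfsg.Agent.H126.SepOrth
import Cfsg.Agent.H68.MeetBase

/-!
# Sylow 3-subgroups of `PSU₄(3)` and `PΩ₇(3)` (helper232)

* `meetIn_of_meet` : `Meet p T → MeetIn p T` for groups with trivial centre;
* `meet_PSU4`, `meet_POmega7` : the own characteristic.
-/

set_option autoImplicit false

namespace Cfsg.Agent.H232.MeetOwn

open Subgroup Cfsg.Agent.H903.SylMeet Cfsg.Agent.H68.MeetB Module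
open Cfsg.Agent.H126 Cfsg.Agent.H126.SepSpSU Cfsg.Agent.H903.SylSemi
open Module Cfsg.Agent.H903.SylSemi Cfsg.Agent.H126.SepStep Cfsg.Agent.H126.SepMain Cfsg.Agent.H126.SepForm

theorem meetIn_of_meet {p : ℕ} {T : Type*} [Group T] (hc : Function.Injective (MulAut.conj : T →* MulAut T))
    (h : Meet p T) : MeetIn p T := by
  intro R hR
  obtain ⟨x, hx⟩ := h (R.map MulAut.conj) (hR.map _)
  refine ⟨x, fun y hy hxy => ?_⟩
  apply hc
  rw [map_one]
  apply hx _ (mem_map_of_mem _ hy)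
  rw [← map_inv, ← map_mul, ← map_mul]
  exact mem_map_of_mem _ hxy

theorem sepO_three : SepO 3 (ZMod 3) (Cfsg.quadFormOdd 3 (ZMod 3)) := by
  have h2 : (2 : ZMod 3) ≠ 0 := by decide
  have := SepOrth.sep_O (p := 3) (F := ZMod 3) (by decide) h2 (LieClassical.OmegaReindex.quadOdd 3 (ZMod 3))
    (LieClassical.OmegaReindex.quadOdd_nondegenerate h2) (by
    rw [Fintype.card_sum, Fintype.card_sum, Fintype.card_fin, Fintype.card_unit]
    omega)
  rwa [LieClassical.OmegaReindex.coe_quadOdd] at this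

theorem meet_POmega7 : Meet 3 (Cfsg.POmega (ZMod 3) (Cfsg.quadFormOdd 3 (ZMod 3))) := by
  have : Fact (Nat.Prime 3) := ⟨Nat.prime_three⟩
  exact H868.MeetOddOmega.meet_POmega_odd le_rfl le_rfl (by rw [ZMod.card]; decide) sepO_three

/-- the proof of helper126 for `p ≥ 5` -/
theorem sepSU_odd {p n q : ℕ} [Fact p.Prime] (hp : 3 ≤ p) {F : Type} [Field F] [Fintype F] [CharP F p]
    (hF : Fintype.card F = q ^ 2) (hn : 3 ≤ n) : Cfsg.Agent.H903.SylSemi.SepSU p F n q := by
  have hF' : Nat.card F = q ^ 2 := by rw [Nat.card_eq_fintype_card, hF]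
  have hpo : Odd p := (Fact.out (p := p.Prime)).odd_of_ne_two (by omega)
  -- `q` is a power of `p`
  obtain ⟨k, hk⟩ : ∃ k, q = p ^ k := by
    obtain ⟨r, hr, hr2⟩ := FiniteField.card F p
    rw [hF] at hr2
    have hdvd : q ∣ p ^ (r : ℕ) := by
      rw [← hr2]
      exact dvd_pow_self q two_ne_zero
    obtain ⟨k, -, hk⟩ := (Nat.dvd_prime_pow hr).1 hdvd
    exact ⟨k, hk⟩
  have hinj : Function.Injective (iterateFrobenius F p k) := (iterateFrobenius F p k).injective
  let σ : F ≃+* F := RingEquiv.ofBijective (iterateFrobenius F p k) (Finite.injective_iff_bijective.1 hinj)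
  have hq : ∀ x : F, σ x = x ^ q := by
    intro x
    change iterateFrobenius F p k x = _
    rw [iterateFrobenius_def, hk]
  have hσ2 : ∀ a, σ (σ a) = a := by
    intro a
    rw [hq, hq, ← pow_mul, ← pow_two, ← hF, FiniteField.pow_card]
  have hq1 : 1 < q := by
    have := Fintype.one_lt_card (α := F)
    rw [hF] at this
    by_contra hcon
    have : q = 0 ∨ q = 1 := by omega
    rcases this with rfl | rfl <;> simp at this
  have hσ1 : σ ≠ 1 := by
    intro h
    obtain ⟨w, hw⟩ := IsCyclic.exists_generator (α := Fˣ)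
    have h1 : w ^ (q - 1) = 1 := by
      have h3 : σ (w : F) = w := by rw [h]; rfl
      rw [hq] at h3
      have h4 : w ^ q = w := Units.ext (by rw [Units.val_pow_eq_pow_val, h3])
      have h5 : w ^ (q - 1) * w = 1 * w := by rw [← pow_succ, show q - 1 + 1 = q by omega, h4, one_mul]
      exact mul_right_cancel h5
    have h3 : orderOf w = q ^ 2 - 1 := by
      rw [orderOf_eq_card_of_forall_mem_zpowers hw, Nat.card_units, hF']
    have h4 := Nat.le_of_dvd (by omega) (orderOf_dvd_of_pow_eq_one h1)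
    rw [h3] at h4
    have h5 : q < q ^ 2 := by nlinarith
    omega
  intro Γ hΓ hsim _
  have hP : PSF p F (Cfsg.hermForm n F q) Γ := ⟨hΓ, hsim⟩
  obtain ⟨g, ⟨h1, h3⟩, h4⟩ := sep_SU hpo (two_ne (by omega)) hσ2 hσ1 hq hF' (hermForm_EH hσ2 hq) (by
    rw [finrank_fintype_fun_eq_card, Fintype.card_fin]
    omega) hP
  exact ⟨g, ⟨h3, h1.2⟩, h4⟩

theorem meet_PSU4 {F : Type} [Field F] [Fintype F] (hF : Fintype.card F = 9) : Meet 3 (Cfsg.PSU 4 F 3) := by
  have : Fact (Nat.Prime 3) := ⟨Nat.prime_three⟩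
  have : CharP F 3 := by
    obtain ⟨p, hp⟩ := CharP.exists F
    obtain ⟨n, hn1, hn2⟩ := FiniteField.card F p
    rw [hF] at hn2
    have h3 : p ∣ 3 ^ 2 := by
      rw [show 3 ^ 2 = 9 by norm_num, hn2]
      exact dvd_pow_self p n.ne_zero
    have h4 : p = 3 := (Nat.prime_dvd_prime_iff_eq hn1 Nat.prime_three).1 (hn1.dvd_of_dvd_pow h3)
    rwa [h4] at hp
  exact H868.MeetOddPSU.meet_PSU le_rfl (by rw [hF]; norm_num) (by norm_num) (by norm_num)
    (sepSU_odd le_rfl (by rw [hF]; norm_num) (by norm_num))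

end Cfsg.Agent.H232.MeetOwn
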