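import Cfsg.Agent.H233.Cex
import Cfsg.Agent.H818.StrP.Gen
import Cfsg.Agent.CpAut.Base

/-!
# Theorem T (S2865, S2866, S2867, S2935): tools for the sporadic and alternating rows

`Cex p H L` (H233.T) : the configuration. `Kill p K` : one of

* `K` has no strongly `p`-embedded subgroup;
* an involution `t` of `K` has `p ∣ |C_K(t)|`, `p ^ 2 ∤ |C_K(t)|`;
* `p ^ 2 ∤ |C_K(t)|` for all involutions `t` of `K`.

`Cex.false_of_kill` : `AutInner p L` and `Kill p L` contradict `Cex p H L`.
-/

set_option autoImplicit false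

namespace Cfsg.Agent.H232.Row

open Cfsg Subgroup Cfsg.Agent.H233.T Cfsg.Agent.CpAut

/-- the three ways to exclude `(p, K)` -/
def Kill (p : ℕ) (K : Type*) [Group K] : Prop :=
  H818.StrP.NoSP p K ∨ (∃ t : K, orderOf t = 2 ∧ p ∣ Nat.card ↥(centralizer ({t} : Set K)) ∧
    ¬ p ^ 2 ∣ Nat.card ↥(centralizer ({t} : Set K))) ∨
    ∀ t : K, orderOf t = 2 → ¬ p ^ 2 ∣ Nat.card ↥(centralizer ({t} : Set K))

theorem Kill.of_noSP {p : ℕ} {K : Type*} [Group K] (h : H818.StrP.NoSP p K) : Kill p K := Or.inl h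

theorem Kill.of_all {p : ℕ} {K : Type*} [Group K]
    (h : ∀ t : K, orderOf t = 2 → ¬ p ^ 2 ∣ Nat.card ↥(centralizer ({t} : Set K))) : Kill p K := Or.inr (Or.inr h)

theorem Kill.of_not_dvd {p : ℕ} {K : Type*} [Group K] (h : ¬ p ^ 2 ∣ Nat.card K) : Kill p K :=
  Kill.of_all fun _ _ hd => h (hd.trans (Subgroup.card_subgroup_dvd_card _))

theorem Kill.of_card {p : ℕ} {K : Type*} [Group K] {t : K} {N : ℕ} (ht : orderOf t = 2)
    (hN : Nat.card ↥(centralizer ({t} : Set K)) = N) (h1 : p ∣ N) (h2 : ¬ p ^ 2 ∣ N) : Kill p K :=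
  Or.inr (Or.inl ⟨t, ht, by rw [hN]; exact h1, by rw [hN]; exact h2⟩)

section

variable {G : Type*} [Group G] [Finite G] {p : ℕ} [hp : Fact p.Prime] {H L : Subgroup G}

/-- no row for groups without strongly `p`-embedded subgroups -/
theorem false_of_noSP (C : Cex p H L) (h : H818.StrP.NoSP p ↥L) : False := by
  have := C.nrm
  exact h _ (H818.StrP.reduce C.se C.dvd)

omit [Finite G] in
/-- elements of order `p` of `G` lie in `L` if the automorphisms of `L` of order `p` are inner -/
theorem mem_of_pow (C : Cex p H L) (hi : AutInner p ↥L) {e : G} (he : e ^ p = 1) : e ∈ L := by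
  have := C.nrm
  have key : ∀ x : ↥L, MulAut.conjNormal (H := L) e = MulAut.conj x → e ∈ L := by
    intro x hx
    have h1 : (x : G)⁻¹ * e ∈ centralizer (L : Set G) := by
      rw [mem_centralizer_iff]
      intro y hy
      have h2 := congrArg (fun φ : MulAut ↥L => ((φ ⟨y, hy⟩ : ↥L) : G)) hx
      have h3 : e * y * e⁻¹ = x * y * (x : G)⁻¹ := by
        rw [MulAut.conjNormal_apply] at h2
        exact h2
      have h4 : e * y = x * y * (x : G)⁻¹ * e := by rw [← h3]; group
      calc y * ((x : G)⁻¹ * e) = (x : G)⁻¹ * (x * y * (x : G)⁻¹ * e) := by group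
        _ = (x : G)⁻¹ * (e * y) := by rw [← h4]
        _ = _ := by group
    rw [C.cent, mem_bot] at h1
    have h2 : e = x := by
      have := congrArg (fun z => (x : G) * z) h1
      simpa using this
    rw [h2]
    exact x.2
  have h1 : (MulAut.conjNormal (H := L) e) ^ p = 1 := by rw [← map_pow, he, map_one]
  rcases (Nat.dvd_prime hp.out).1 (orderOf_dvd_of_pow_eq_one h1) with h2 | h2
  · rw [orderOf_eq_one_iff] at h2
    exact key 1 (by rw [h2, map_one])
  · obtain ⟨x, hx⟩ := hi _ h2
    exact key x hx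

omit [Finite G] in
theorem sq_le (C : Cex p H L) (hi : AutInner p ↥L) {E : Subgroup G} (hE : Sq p E) : E ≤ L :=
  fun _ he => mem_of_pow C hi (hE.2.1 _ he)

omit [Finite G] hp in
theorem centralizer_coe (t : ↥L) :
    (centralizer ({t} : Set ↥L)).map L.subtype = centralizer ({(t : G)} : Set G) ⊓ L := by
  ext x
  simp only [mem_map, mem_inf, mem_centralizer_singleton_iff]
  constructor
  · rintro ⟨y, hy, rfl⟩
    exact ⟨congrArg Subtype.val hy, y.2⟩
  · rintro ⟨h1, h2⟩
    exact ⟨⟨x, h2⟩, Subtype.ext h1, rfl⟩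

omit [Finite G] hp in
theorem card_centralizer_coe (t : ↥L) :
    Nat.card ↥(centralizer ({(t : G)} : Set G) ⊓ L) = Nat.card ↥(centralizer ({t} : Set ↥L)) := by
  rw [← centralizer_coe, Subgroup.card_map_of_injective L.subtype_injective]

/-- an involution `t` of `L` with `p ∣ |C_L(t)|` has `p ^ 2 ∣ |C_L(t)|` -/
theorem sq_dvd_cent (C : Cex p H L) (hi : AutInner p ↥L) {t : ↥L} (ht : orderOf t = 2)
    (hd : p ∣ Nat.card ↥(centralizer ({t} : Set ↥L))) : p ^ 2 ∣ Nat.card ↥(centralizer ({t} : Set ↥L)) := by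
  have ht' : orderOf (t : G) = 2 := by rw [Subgroup.orderOf_coe]; exact ht
  have hd' : p ∣ Nat.card (centralizer ({(t : G)} : Set G)) := by
    refine hd.trans ?_
    rw [← card_centralizer_coe]
    exact Subgroup.card_dvd_of_le inf_le_left
  obtain ⟨E, hE, hEt⟩ := C.inv ht' hd'
  rw [← card_centralizer_coe]
  exact hE.dvd_card.trans (Subgroup.card_dvd_of_le (le_inf hEt (sq_le C hi hE)))

/-- **The row lemma.** -/
theorem false_of_kill (C : Cex p H L) (hi : AutInner p ↥L) (h : Kill p ↥L) : False := by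
  rcases h with h | ⟨t, ht, h1, h2⟩ | h
  · exact false_of_noSP C h
  · exact h2 (sq_dvd_cent C hi ht h1)
  · obtain ⟨t, ht, ht2, E, hE, -, hEt⟩ := C.exists_invol
    refine h ⟨t, ht.2⟩ ?_ ?_
    · rw [← ht2]
      exact (Subgroup.orderOf_coe (⟨t, ht.2⟩ : ↥L)).symm
    · rw [← card_centralizer_coe]
      exact hE.dvd_card.trans (Subgroup.card_dvd_of_le (le_inf hEt (sq_le C hi hE)))

end

/-- `Kill` and isomorphisms -/
theorem card_centralizer_congr {K K' : Type*} [Group K] [Group K'] (e : K ≃* K') (t : K) :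
    Nat.card ↥(centralizer ({e t} : Set K')) = Nat.card ↥(centralizer ({t} : Set K)) := by
  refine (Nat.card_congr (Equiv.subtypeEquiv e.toEquiv fun x => ?_)).symm
  change x ∈ centralizer _ ↔ e x ∈ centralizer _
  rw [mem_centralizer_singleton_iff, mem_centralizer_singleton_iff]
  constructor
  · intro hx
    rw [← map_mul, hx, map_mul]
  · intro hx
    apply e.injective
    rw [map_mul, hx, map_mul]

/-- `p ^ 2` does not divide the orders of the centralizers of involutions -/
def NoSq (p : ℕ) (K : Type*) [Group K] : Prop :=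
  ∀ t : K, orderOf t = 2 → ¬ p ^ 2 ∣ Nat.card ↥(centralizer ({t} : Set K))

theorem NoSq.of_injective {K K' : Type*} [Group K] [Group K'] {p : ℕ} (f : K →* K')
    (hf : Function.Injective f) (h : NoSq p K') : NoSq p K := by
  intro t ht hd
  refine h (f t) (by rw [orderOf_injective f hf, ht]) (hd.trans ?_)
  have h1 : (centralizer ({t} : Set K)).map f ≤ centralizer ({f t} : Set K') := by
    rintro _ ⟨x, hx, rfl⟩
    rw [mem_centralizer_singleton_iff, ← map_mul, ← map_mul]
    exact congrArg f (mem_centralizer_singleton_iff.1 hx)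
  rw [← Subgroup.card_map_of_injective hf (K := centralizer ({t} : Set K))]
  exact Subgroup.card_dvd_of_le h1

theorem Kill.congr {K K' : Type*} [Group K] [Group K'] [Finite K] [Finite K'] {p : ℕ} [Fact p.Prime] (e : K ≃* K')
    (h : Kill p K') : Kill p K := by
  rcases h with h | ⟨t, ht, h1, h2⟩ | h
  · exact Or.inl (H818.StrP.noSP_congr e.symm h)
  · refine Or.inr (Or.inl ⟨e.symm t, by rw [MulEquiv.orderOf_eq, ht], ?_, ?_⟩)
    · rw [card_centralizer_congr]
      exact h1
    · rw [card_centralizer_congr]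
      exact h2
  · exact Kill.of_all (NoSq.of_injective e.toMonoidHom e.injective h)

section

variable {G : Type*} [Group G] [Finite G] {p : ℕ} [hp : Fact p.Prime] {H L : Subgroup G}

/-- **The row theorem**: `Kill` for the odd primes with `p ^ 2 ∣ |L|`. -/
theorem false_of_rows (C : Cex p H L) (hi : AutInner p ↥L) (h : p ^ 2 ∣ Nat.card L → Kill p ↥L) : False := by
  by_cases hd : p ^ 2 ∣ Nat.card L
  · exact false_of_kill C hi (h hd)
  · exact false_of_kill C hi (Kill.of_not_dvd hd)

end

end Cfsg.Agent.H232.Row
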